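import Mathlib
import Cfsg.Prelude.Def_FusionReduction
import Cfsg.Agent.Lib.Offender.Involves
import Cfsg.Agent.Lib.Fusion.Basic

/-!
A fusion system all whose automizers avoid the symmetric group of degree three has local models
avoiding the symmetric group of degree four.
-/

set_option autoImplicit false
set_option linter.style.haveILetI false

namespace CfsgLib.StellmacherW.Derived

open Cfsg Cfsg.FusionSystem

/-- The action of a permutation of four points on the three pairings, pairing `i` being the one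
matching `3` with `i`. -/
def pairFun (σ : Equiv.Perm (Fin 4)) (i : Fin 3) : Fin 3 :=
  let a := (σ 3).val
  let b := (σ i.castSucc).val
  if a = 3 then (Fin.ofNat 3 b) else if b = 3 then (Fin.ofNat 3 a) else (Fin.ofNat 3 (3 - a - b))

theorem pairFun_one : ∀ i : Fin 3, pairFun 1 i = i := by decide +kernel

theorem pairFun_mul : ∀ (σ τ : Equiv.Perm (Fin 4)) (i : Fin 3),
    pairFun (σ * τ) i = pairFun σ (pairFun τ i) := by decide +kernel

/-- The homomorphism from degree four to degree three. -/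
def pairHom : Equiv.Perm (Fin 4) →* Equiv.Perm (Fin 3) where
  toFun σ :=
    { toFun := pairFun σ
      invFun := pairFun σ⁻¹
      left_inv := fun i => by rw [← pairFun_mul, inv_mul_cancel, pairFun_one]
      right_inv := fun i => by rw [← pairFun_mul, mul_inv_cancel, pairFun_one] }
  map_one' := Equiv.ext pairFun_one
  map_mul' σ τ := Equiv.ext (pairFun_mul σ τ)

theorem pairHom_surjective : ∀ π : Equiv.Perm (Fin 3), ∃ σ, pairHom σ = π := by decide +kernel

theorem pairHom_ker_sq : ∀ σ : Equiv.Perm (Fin 4), pairHom σ = 1 → σ * σ = 1 := by decide +kernel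

theorem pairHom_centralizer : ∀ σ : Equiv.Perm (Fin 4),
    (∀ v : Equiv.Perm (Fin 4), pairHom v = 1 → σ * v = v * σ) → pairHom σ = 1 := by decide +kernel

universe u

variable {Ω : Type u} [Group Ω] {S : Subgroup Ω}

/-- Local models avoid degree four when automizers avoid degree three. -/
theorem isSectionFree_of_autGroup [Finite S] (hS : IsPGroup 2 S) (F : FusionSystem S)
    (h3 : ∀ U : Subgroup Ω, U ≤ S → ¬ Cfsg.Involves (Equiv.Perm (Fin 3)) ↥(F.autGroup U)) :
    F.IsSectionFree 2 (Equiv.Perm (Fin 4)) := by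
  classical
  haveI : Fact (Nat.Prime 2) := ⟨Nat.prime_two⟩
  intro Q hQn hQc N hN L _ ι hL hinv
  obtain ⟨hfin, ⟨hι, hreal⟩, ⟨T, hT⟩, -⟩ := hL
  haveI := hfin
  obtain ⟨K, ψ, hψ⟩ := CfsgLib.Offender.exists_hom_of_involves hinv
  let V : Subgroup K := (pairHom.ker).comap ψ
  obtain ⟨P₀⟩ : Nonempty (Sylow 2 V) := inferInstance
  let PK : Subgroup K := (P₀ : Subgroup V).map V.subtype
  -- the image of `PK` is the whole kernel
  have hker : IsPGroup 2 ↥(pairHom.ker) := fun σ =>
    ⟨1, Subtype.ext (by rw [pow_one, pow_two]; exact pairHom_ker_sq _ σ.2)⟩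
  let ψV : V →* ↥(pairHom.ker) := (ψ.comp V.subtype).codRestrict _ fun v => v.2
  have hψV : Function.Surjective ψV := fun σ => by
    obtain ⟨k, hk⟩ := hψ σ
    exact ⟨⟨k, show ψ k ∈ pairHom.ker from hk.symm ▸ σ.2⟩, Subtype.ext hk⟩
  have hPtop : (P₀ : Subgroup V).map ψV = ⊤ := by
    rw [← Sylow.coe_mapSurjective hψV P₀]
    exact ((P₀.mapSurjective hψV).is_maximal' (hker.to_subgroup ⊤) le_top).symm
  have hPimg : ∀ σ : Equiv.Perm (Fin 4), pairHom σ = 1 → ∃ k ∈ PK, ψ k = σ := fun σ hσ => by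
    obtain ⟨v, hv, hvσ⟩ := (hPtop ▸ Subgroup.mem_top (⟨σ, hσ⟩ : ↥(pairHom.ker)) :
      (⟨σ, hσ⟩ : ↥(pairHom.ker)) ∈ (P₀ : Subgroup V).map ψV)
    exact ⟨v, ⟨v, hv, rfl⟩, congrArg Subtype.val hvσ⟩
  -- the normalizer of `PK` covers the quotient
  have hfr : Subgroup.normalizer (PK : Set K) ⊔ V = ⊤ := Sylow.normalizer_sup_eq_top P₀
  let M : Subgroup K := Subgroup.normalizer (PK : Set K)
  let χ : M →* Equiv.Perm (Fin 3) := (pairHom.comp ψ).comp M.subtype
  have hχ : Function.Surjective χ := fun π => by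
    obtain ⟨σ, rfl⟩ := pairHom_surjective π
    obtain ⟨k, rfl⟩ := hψ σ
    have hk : k ∈ Subgroup.normalizer (PK : Set K) ⊔ V := hfr ▸ Subgroup.mem_top k
    rw [Subgroup.mem_sup_of_normal_right] at hk
    obtain ⟨m, hm, v, hv, rfl⟩ := hk
    exact ⟨⟨m, hm⟩, by
      show pairHom (ψ m) = pairHom (ψ (m * v))
      rw [map_mul, map_mul, show pairHom (ψ v) = 1 from hv, mul_one]⟩
  -- move `PK` into the Sylow subgroup
  let P : Subgroup L := PK.map K.subtype
  have hPp : IsPGroup 2 P := (P₀.isPGroup'.map _).map _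
  obtain ⟨R, hR⟩ := hPp.exists_le_sylow
  obtain ⟨g, hg⟩ := MulAction.exists_smul_eq L R T
  have hPT : ∀ x ∈ P, g * x * g⁻¹ ∈ ι.range := fun x hx => by
    rw [← hT, ← hg, Sylow.coe_subgroup_smul]
    exact ⟨x, hR hx, rfl⟩
  let U₀ : Subgroup ↥(normalizerIn S Q) :=
    (P.map (MulAut.conj g).toMonoidHom).comap ι
  let U : Subgroup Ω := U₀.map (normalizerIn S Q).subtype
  have hUN : U ≤ normalizerIn S Q := Subgroup.map_subtype_le _
  have hUS : U ≤ S := hUN.trans inf_le_left
  haveI : Finite U := Finite.of_injective (Subgroup.inclusion hUS) (Subgroup.inclusion_injective _)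
  let f : U →* L :=
    ((MulAut.conj g⁻¹).toMonoidHom.comp ι).comp (Subgroup.inclusion hUN)
  have hf : Function.Injective f :=
    ((MulAut.conj g⁻¹).injective.comp hι).comp (Subgroup.inclusion_injective _)
  have hfr' : f.range = P := by
    ext x
    constructor
    · rintro ⟨⟨_, u, hu, rfl⟩, rfl⟩
      obtain ⟨y, hy, hyu⟩ := hu
      show g⁻¹ * ι u * g⁻¹⁻¹ ∈ P
      rw [← hyu]
      simpa [mul_assoc] using hy
    · intro hx
      obtain ⟨u, hu⟩ := hPT x hx
      refine ⟨⟨(u : Ω), u, ⟨x, hx, hu.symm⟩, rfl⟩, ?_⟩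
      show g⁻¹ * ι u * g⁻¹⁻¹ = x
      rw [hu]; group
  let e : U ≃* P := (MonoidHom.ofInjective hf).trans (MulEquiv.subgroupCongr hfr')
  have he : ∀ u : U, ((e u : P) : L) = g⁻¹ * ι (Subgroup.inclusion hUN u) * g⁻¹⁻¹ := fun u => rfl
  -- conjugation gives automorphisms of the system
  have hMP : ∀ m : M, ((m : K) : L) ∈ Subgroup.normalizer (P : Set L) := fun m =>
    Subgroup.le_normalizer_map K.subtype ⟨(m : K), m.2, rfl⟩
  let c : M →* MulAut P :=
    (Subgroup.normalizerMonoidHom P).comp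
      ((K.subtype.comp M.subtype).codRestrict _ hMP)
  let θ : M →* MulAut U := (MulAut.congr e.symm).toMonoidHom.comp c
  have hθe : ∀ (m : M) (u : U), ((e (θ m u) : P) : L) = (m : K) * (e u : L) * ((m : K) : L)⁻¹ := by
    intro m u
    show ((e (e.symm (c m (e.symm.symm u))) : P) : L) = _
    rw [MulEquiv.apply_symm_apply, MulEquiv.symm_symm]
    rfl
  have hθF : ∀ m : M, θ m ∈ F.autGroup U := by
    intro m
    refine Subgroup.subset_closure ?_
    have h1 : U.subtype.comp (θ m).toMonoidHom ∈ N.Hom U := by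
      refine (hreal U hUN _ fun x => hUN (θ m x).2).mpr ⟨g * ((m : K) : L) * g⁻¹, fun x => ?_⟩
      have h2 := hθe m x
      rw [he, he] at h2
      have h3 : ι (Subgroup.inclusion hUN (θ m x)) = g * ((m : K) : L) * g⁻¹ *
          ι (Subgroup.inclusion hUN x) * (g * ((m : K) : L) * g⁻¹)⁻¹ := by
        have := congrArg (fun y => g * y * g⁻¹) h2
        simpa [mul_assoc] using this
      exact h3
    rw [hN U] at h1
    exact h1.1
  let θ' : M →* ↥(F.autGroup U) := θ.codRestrict _ hθF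
  have hle : θ'.rangeRestrict.ker ≤ χ.ker := by
    intro m hm
    rw [MonoidHom.ker_rangeRestrict] at hm
    have hm1 : θ m = 1 := congrArg Subtype.val hm
    refine MonoidHom.mem_ker.mpr (pairHom_centralizer _ fun v hv => ?_)
    obtain ⟨k, hk, rfl⟩ := hPimg v hv
    have hkP : (k : L) ∈ P := ⟨k, hk, rfl⟩
    have h2 := hθe m (e.symm ⟨k, hkP⟩)
    rw [hm1, MulAut.one_apply, MulEquiv.apply_symm_apply] at h2
    have h3 : (m : K) * k = k * (m : K) := Subtype.ext (by
      show ((m : K) : L) * (k : L) = (k : L) * ((m : K) : L)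
      exact eq_mul_inv_iff_mul_eq.mp h2 |>.symm)
    show ψ (m : K) * ψ k = ψ k * ψ (m : K)
    rw [← map_mul, h3, map_mul]
  refine h3 U hUS (CfsgLib.Offender.involves_of_hom
    (θ'.rangeRestrict.liftOfSurjective (MonoidHom.rangeRestrict_surjective θ') ⟨χ, hle⟩) ?_)
  intro π
  obtain ⟨m, rfl⟩ := hχ π
  exact ⟨θ'.rangeRestrict m, MonoidHom.liftOfRightInverse_comp_apply _ _ _ ⟨χ, hle⟩ m⟩

end CfsgLib.StellmacherW.Derived
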