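import Mathlib

/-!
Character sums of quadratic functions over the field of two elements: a Nyberg bound for families
of nondegenerate quadratic functions, and the existence of a common zero.
-/

set_option autoImplicit false

namespace CfsgLib.StellmacherW

/-- The sign character. -/
def sgn (a : ZMod 2) : ℤ := if a = 0 then 1 else -1

theorem sgn_add : ∀ a b : ZMod 2, sgn (a + b) = sgn a * sgn b := by decide

theorem zmod_two_cases : ∀ a : ZMod 2, a = 0 ∨ a = 1 := by decide

theorem zmod_two_self : ∀ a : ZMod 2, a + a = 0 := by decide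

variable {Q : Type*} [AddCommGroup Q] [Fintype Q]

open Classical in
theorem sum_sgn_hom (f : Q →+ ZMod 2) :
    (∑ x, sgn (f x)) = if ∀ x, f x = 0 then (Fintype.card Q : ℤ) else 0 := by
  split_ifs with h
  · simp [h, sgn]
  · push Not at h
    obtain ⟨u, hu⟩ := h
    have h1 : f u = 1 := (zmod_two_cases _).resolve_left hu
    have h2 : (∑ x, sgn (f x)) = ∑ x, sgn (f (u + x)) :=
      (Equiv.sum_comp (Equiv.addLeft u) fun x => sgn (f x)).symm
    simp only [map_add, sgn_add, h1, show sgn 1 = -1 from rfl, neg_one_mul,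
      Finset.sum_neg_distrib] at h2
    linarith

/-- `S²`, for a function with biadditive polar form. -/
theorem sum_sgn_sq (q : Q → ZMod 2) (b : Q → Q →+ ZMod 2)
    (hb : ∀ x y, q (x + y) + q x + q y + q 0 = b y x) [DecidablePred fun u => ∀ x, b u x = 0] :
    (∑ x, sgn (q x)) ^ 2 =
      (Fintype.card Q : ℤ) * ∑ u ∈ Finset.univ.filter (fun u => ∀ x, b u x = 0), sgn (q u + q 0) := by
  classical
  have key : ∀ x u, sgn (q x) * sgn (q (x + u)) = sgn (b u x) * sgn (q u + q 0) := by
    intro x u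
    rw [← sgn_add, ← sgn_add, ← hb x u]
    congr 1
    linear_combination (-1 : ZMod 2) * zmod_two_self (q u + q 0)
  have hx : ∀ x, (∑ y, sgn (q x) * sgn (q y)) = ∑ u, sgn (b u x) * sgn (q u + q 0) := by
    intro x
    rw [← Equiv.sum_comp (Equiv.addLeft x) fun y => sgn (q x) * sgn (q y)]
    exact Finset.sum_congr rfl fun u _ => key x u
  rw [sq, Finset.sum_mul_sum, Finset.sum_congr rfl fun x _ => hx x, Finset.sum_comm]
  simp only [← Finset.sum_mul, sum_sgn_hom]
  rw [Finset.mul_sum, Finset.sum_filter]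
  refine Finset.sum_congr rfl fun u _ => ?_
  split_ifs <;> simp

theorem sum_sgn_sq_le (q : Q → ZMod 2) (b : Q → Q →+ ZMod 2)
    (hb : ∀ x y, q (x + y) + q x + q y + q 0 = b y x) :
    (∑ x, sgn (q x)) ^ 2 ≤ (Fintype.card Q : ℤ) * (Nat.card {u : Q // ∀ x, b u x = 0} : ℤ) := by
  classical
  rw [sum_sgn_sq q b hb, Nat.card_eq_fintype_card, Fintype.card_subtype]
  refine mul_le_mul_of_nonneg_left ?_ (Nat.cast_nonneg _)
  have h := Finset.sum_le_card_nsmul (Finset.univ.filter fun u => ∀ x, b u x = 0)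
    (fun u => sgn (q u + q 0)) 1 fun u _ => by unfold sgn; split_ifs <;> norm_num
  simpa using h

theorem sum_sgn_sq_nondeg (q : Q → ZMod 2) (b : Q → Q →+ ZMod 2)
    (hb : ∀ x y, q (x + y) + q x + q y + q 0 = b y x) (hnd : ∀ u, (∀ x, b u x = 0) → u = 0) :
    (∑ x, sgn (q x)) ^ 2 = (Fintype.card Q : ℤ) := by
  classical
  rw [sum_sgn_sq q b hb]
  have h0 : ∀ x, b 0 x = 0 := fun x => by
    have := hb x 0
    simp only [add_zero] at this
    rw [← this]
    linear_combination zmod_two_self (q x) + zmod_two_self (q 0)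
  have hf : (Finset.univ.filter fun u => ∀ x, b u x = 0) = {0} :=
    Finset.eq_singleton_iff_unique_mem.mpr
      ⟨by simp [h0], fun u hu => hnd u (Finset.mem_filter.mp hu).2⟩
  simp [hf, zmod_two_self, sgn]

/-- Nyberg: a linear family of nondegenerate quadratic functions on `Q` has at most `√|Q|` members. -/
theorem nyberg [Module (ZMod 2) Q] [Nontrivial Q] {A : Type*} [AddCommGroup A] [Module (ZMod 2) A]
    [Fintype A] (q : Q → A →+ ZMod 2) (b : A → Q → Q →+ ZMod 2)
    (hb : ∀ w x y, q (x + y) w + q x w + q y w + q 0 w = b w y x)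
    (hnd : ∀ w ≠ 0, ∀ u, (∀ x, b w u x = 0) → u = 0) :
    Fintype.card A ^ 2 ≤ Fintype.card Q := by
  classical
  have hd := Module.card_eq_pow_finrank (K := ZMod 2) (V := Q)
  have ha := Module.card_eq_pow_finrank (K := ZMod 2) (V := A)
  rw [ZMod.card] at hd ha
  set d := Module.finrank (ZMod 2) Q with hd_def
  set a := Module.finrank (ZMod 2) A
  rcases subsingleton_or_nontrivial A with hA | hA
  · rw [show Fintype.card A = 1 from Fintype.card_eq_one_iff.mpr ⟨0, fun x => Subsingleton.elim _ _⟩]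
    exact Fintype.card_pos
  obtain ⟨w0, hw0⟩ := exists_ne (0 : A)
  let S : A → ℤ := fun w => ∑ x, sgn (q x w)
  have hS : ∀ w ≠ 0, (S w).natAbs ^ 2 = 2 ^ d := fun w hw => by
    have := sum_sgn_sq_nondeg (fun x => q x w) (b w) (hb w) (hnd w hw)
    rw [hd] at this
    exact_mod_cast (Int.natAbs_sq (S w)).trans this
  obtain ⟨h, -, hh⟩ := (Nat.dvd_prime_pow Nat.prime_two).mp
    (Dvd.intro (S w0).natAbs (by rw [← sq]; exact hS w0 hw0) : (S w0).natAbs ∣ 2 ^ d)
  have hdh : 2 * h = d := Nat.pow_right_injective (le_refl 2)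
    (by show 2 ^ (2 * h) = 2 ^ d; rw [← hS w0 hw0, hh, ← pow_mul, mul_comm])
  have hd0 : 0 < d := by
    rcases Nat.eq_zero_or_pos d with h0 | h0
    · exfalso
      rw [h0, pow_zero] at hd
      exact not_subsingleton Q (Fintype.card_le_one_iff_subsingleton.mp hd.le)
    · exact h0
  have hh0 : 0 < h := by omega
  have hSpm : ∀ w ≠ 0, ∃ c : ℤ, (c : ZMod 2) = 1 ∧ S w = 2 ^ h * c := fun w hw => by
    have h1 : (S w).natAbs = 2 ^ h := Nat.pow_left_injective two_ne_zero
      (by show (S w).natAbs ^ 2 = (2 ^ h) ^ 2; rw [hS w hw, ← pow_mul, ← hdh, mul_comm h])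
    rcases Int.natAbs_eq_iff.mp h1 with h2 | h2
    · exact ⟨1, by simp, by simpa using h2⟩
    · exact ⟨-1, by decide, by simpa using h2⟩
  choose c hc1 hc2 using hSpm
  by_contra hcon
  rw [hd, ha, not_le, ← hdh, ← pow_mul, Nat.pow_lt_pow_iff_right (by norm_num : 1 < 2)] at hcon
  -- count the zeros twice
  have htot : (∑ w, S w) = (2 : ℤ) ^ a * (Finset.univ.filter fun x => ∀ w, q x w = 0).card := by
    rw [Finset.sum_comm, Finset.sum_congr rfl fun x _ => sum_sgn_hom (q x), ← Finset.sum_filter]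
    simp [ha, mul_comm]
  have hS0 : S 0 = (2 : ℤ) ^ (2 * h) := by
    simp [S, sgn, hd, hdh]
  rw [← Finset.add_sum_erase _ _ (Finset.mem_univ (0 : A)), hS0] at htot
  rw [← Finset.sum_attach, Finset.sum_congr rfl
    (fun w _ => hc2 w.1 (Finset.ne_of_mem_erase w.2)), ← Finset.mul_sum] at htot
  set N := (Finset.univ.filter fun x => ∀ w, q x w = 0).card
  set C := ∑ w ∈ (Finset.univ.erase (0 : A)).attach, c w.1 (Finset.ne_of_mem_erase w.2) with hC
  have h3 : (2 : ℤ) ^ h + C = 2 ^ (a - h) * N := by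
    have h4 : (2 : ℤ) ^ h * (2 ^ h + C) = 2 ^ h * (2 ^ (a - h) * N) := by
      rw [mul_add, ← pow_add, ← two_mul h, htot, ← mul_assoc, ← pow_add, Nat.add_sub_cancel' (by omega)]
    exact mul_left_cancel₀ (pow_ne_zero _ two_ne_zero) h4
  have h5 : (C : ZMod 2) = 1 := by
    rw [hC, Int.cast_sum, Finset.sum_congr rfl (fun w _ => hc1 w.1 (Finset.ne_of_mem_erase w.2))]
    rw [Finset.sum_const, Finset.card_attach, Finset.card_erase_of_mem (Finset.mem_univ _),
      Finset.card_univ, ha, nsmul_one, Nat.cast_sub Nat.one_le_two_pow, Nat.cast_pow]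
    have : ((2 : ℕ) : ZMod 2) = 0 := rfl
    rw [this, zero_pow (by omega : a ≠ 0)]
    rfl
  have h6 := congrArg (Int.cast : ℤ → ZMod 2) h3
  push_cast at h6
  rw [h5, show (2 : ZMod 2) = 0 from rfl, zero_pow (by omega : h ≠ 0),
    zero_pow (by omega : a - h ≠ 0), zero_mul, zero_add] at h6
  exact one_ne_zero h6

/-- A map to `U` with nondegenerate enough components has a zero. -/
theorem exists_zero {U : Type*} [AddCommGroup U] [Module (ZMod 2) U] [Fintype U]
    (g : Q → U) (b : Q → Q →+ U) (hb : ∀ x y, g (x + y) + g x + g y + g 0 = b y x)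
    (hrad : ∀ l : U →ₗ[ZMod 2] ZMod 2, l ≠ 0 →
      Fintype.card U ^ 2 * Nat.card {u : Q // ∀ x, l (b u x) = 0} ≤ Fintype.card Q) :
    ∃ x, g x = 0 := by
  classical
  by_contra hcon
  push Not at hcon
  haveI : Finite (Module.Dual (ZMod 2) U) := Finite.of_injective _ DFunLike.coe_injective
  haveI : Fintype (Module.Dual (ZMod 2) U) := Fintype.ofFinite _
  let D := Module.Dual (ZMod 2) U
  have hcard : Fintype.card D = Fintype.card U := by
    rw [Module.card_eq_pow_finrank (K := ZMod 2), Module.card_eq_pow_finrank (K := ZMod 2) (V := U),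
      Subspace.dual_finrank_eq]
  let S : D → ℤ := fun l => ∑ x, sgn (l (g x))
  have htot : (∑ l, S l) = 0 := by
    rw [Finset.sum_comm]
    refine Finset.sum_eq_zero fun x _ => ?_
    have h := sum_sgn_hom (Q := D) (Module.Dual.eval (ZMod 2) U (g x)).toAddMonoidHom
    refine h.trans (if_neg fun hall => ?_)
    exact hcon x ((Module.forall_dual_apply_eq_zero_iff (ZMod 2) (g x)).mp hall)
  have hS0 : S 0 = (Fintype.card Q : ℤ) := by simp [S, D, LinearMap.zero_apply, sgn]
  have hS : ∀ l : D, l ≠ 0 → |S l| * (Fintype.card U : ℤ) ≤ Fintype.card Q := by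
    intro l hl
    let bl : Q → Q →+ ZMod 2 := fun u => l.toAddMonoidHom.comp (b u)
    have h1 := sum_sgn_sq_le (fun x => l (g x)) bl
      (fun x y => by simp only [bl, AddMonoidHom.comp_apply, LinearMap.toAddMonoidHom_coe,
        ← hb x y, map_add])
    have h2 : ((Fintype.card U : ℤ) ^ 2 * (Nat.card {u : Q // ∀ x, bl u x = 0} : ℤ)) ≤ Fintype.card Q := by
      exact_mod_cast hrad l hl
    have h3 : (|S l| * (Fintype.card U : ℤ)) ^ 2 ≤ (Fintype.card Q : ℤ) ^ 2 := by
      rw [mul_pow, sq_abs]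
      calc (S l) ^ 2 * (Fintype.card U : ℤ) ^ 2
          ≤ (Fintype.card Q : ℤ) * (Nat.card {u : Q // ∀ x, bl u x = 0} : ℤ) *
            (Fintype.card U : ℤ) ^ 2 := mul_le_mul_of_nonneg_right h1 (sq_nonneg _)
        _ = (Fintype.card Q : ℤ) * ((Fintype.card U : ℤ) ^ 2 *
            (Nat.card {u : Q // ∀ x, bl u x = 0} : ℤ)) := by ring
        _ ≤ _ := by rw [sq (Fintype.card Q : ℤ)]; exact mul_le_mul_of_nonneg_left h2 (Nat.cast_nonneg _)
    exact (pow_le_pow_iff_left₀ (mul_nonneg (abs_nonneg _) (Nat.cast_nonneg _))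
      (Nat.cast_nonneg _) two_ne_zero).mp h3
  rw [← Finset.add_sum_erase _ _ (Finset.mem_univ (0 : D)), hS0] at htot
  have h4 : (Fintype.card Q : ℤ) * Fintype.card U ≤
      ∑ l ∈ Finset.univ.erase (0 : D), (Fintype.card Q : ℤ) := by
    calc (Fintype.card Q : ℤ) * Fintype.card U
        = (∑ l ∈ Finset.univ.erase (0 : D), -S l) * Fintype.card U := by
          rw [Finset.sum_neg_distrib]
          congr 1
          linarith
      _ ≤ _ := by
          rw [Finset.sum_mul]
          refine Finset.sum_le_sum fun l hl => le_trans ?_ (hS l (Finset.ne_of_mem_erase hl))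
          exact mul_le_mul_of_nonneg_right (neg_le_abs _) (Nat.cast_nonneg _)
  rw [Finset.sum_const, Finset.card_erase_of_mem (Finset.mem_univ _), Finset.card_univ, hcard,
    nsmul_eq_mul, Nat.cast_sub Fintype.card_pos, Nat.cast_one] at h4
  have : (0 : ℤ) < Fintype.card Q := by exact_mod_cast Fintype.card_pos
  nlinarith

end CfsgLib.StellmacherW
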