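import Cfsg.Agent.Lib.StellmacherW.Frame
import Cfsg.Agent.Lib.StellmacherW.Counting

/-!
The target lemma: the orbit of a vector outside `W₁` meets the subspace opposite to the frame.
-/

set_option autoImplicit false
set_option linter.style.haveILetI false

namespace CfsgLib.StellmacherW

variable {G : Type*} [Group G] {V : Type*} [AddCommGroup V] [Module (ZMod 2) V] [Finite V]
  {ρ : Representation (ZMod 2) G V}

theorem finrank_map_act (g : G) (S : Submodule (ZMod 2) V) :
    Module.finrank (ZMod 2) (S.map (ρ g)) = Module.finrank (ZMod 2) S :=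
  (Submodule.equivMapOfInjective _ (act_injective ρ g) S).finrank_eq.symm

theorem card_eq_two_pow (M : Type*) [AddCommGroup M] [Module (ZMod 2) M] [Fintype M] :
    Fintype.card M = 2 ^ Module.finrank (ZMod 2) M := by
  rw [Module.card_eq_pow_finrank (K := ZMod 2), ZMod.card]

/-- The target lemma. -/
theorem exists_target [Finite G] {E : Subgroup G} {W₀ W₁ D : Submodule (ZMod 2) V}
    (F : Frame ρ E W₁) (hY : fixS ρ E ≤ commS ρ E W₁) (hC0 : ∀ v ∈ fixS ρ E, v ∈ W₀ → v = 0)
    (htop : fixS ρ E ⊔ W₀ = ⊤) (hD : ∀ v ∈ D, v ∈ W₁ → v = 0)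
    (hrank : Module.finrank (ZMod 2) (fixS ρ E) = Module.finrank (ZMod 2) D) {p : V} (hp : p ∉ W₁) :
    ∃ t ∈ E, ρ t p ∈ W₀ := by
  classical
  letI : CommGroup E := { (inferInstance : Group E) with
    mul_comm := fun a b => Subtype.ext (F.comm a.2 b.2) }
  let Q := Additive E
  letI : AddCommGroup Q := inferInstanceAs (AddCommGroup (Additive E))
  let τ : Q → G := fun a => (Additive.toMul a : E)
  have hτ : ∀ a : Q, τ a ∈ E := fun a => (Additive.toMul a : E).2
  have hτadd : ∀ a b : Q, τ (a + b) = τ a * τ b := fun a b => rfl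
  have hτ0 : τ 0 = 1 := rfl
  letI : Module (ZMod 2) Q := AddCommGroup.zmodModule fun a => by
    rw [two_nsmul]
    exact congrArg Additive.ofMul (Subtype.ext (F.invol _ (hτ a)))
  haveI : Fintype Q := Fintype.ofFinite _
  haveI : Finite (V ⧸ W₀) := Quotient.finite _
  haveI : Fintype (V ⧸ W₀) := Fintype.ofFinite _
  haveI : Fintype V := Fintype.ofFinite _
  -- second differences
  have hdiff : ∀ (a b : Q) (v : V),
      cm ρ (τ (a + b)) v + cm ρ (τ a) v + cm ρ (τ b) v = cm ρ (τ a) (cm ρ (τ b) v) := by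
    intro a b v
    rw [hτadd, cm_mul]
    abel_nf
    simp [two_smul, add_self_zero]
  have hbil : ∀ (a b c : Q) (v : V), cm ρ (τ (a + b)) (cm ρ (τ c) v) =
      cm ρ (τ a) (cm ρ (τ c) v) + cm ρ (τ b) (cm ρ (τ c) v) := by
    intro a b c v
    rw [hτadd, cm_mul, (mem_fixS_iff ρ).mp
      (F.cm_fix _ (hτ b) _ (F.cm_mem _ (hτ c) v)) _ (hτ a), add_zero]
  let B : V → Q → Q →+ V := fun v u =>
    AddMonoidHom.mk' (fun x => cm ρ (τ x) (cm ρ (τ u) v)) fun a b => hbil a b u v
  have hB : ∀ v u x, B v u x = cm ρ (τ x) (cm ρ (τ u) v) := fun _ _ _ => rfl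
  -- the map
  let g : Q → V ⧸ W₀ := fun a => W₀.mkQ (ρ (τ a) p)
  suffices h : ∃ a, g a = 0 by
    obtain ⟨a, ha⟩ := h
    exact ⟨τ a, hτ a, (Submodule.Quotient.mk_eq_zero W₀).mp ha⟩
  refine exists_zero g (fun u => W₀.mkQ.toAddMonoidHom.comp (B p u))
    (fun a b => by
      simp only [g, AddMonoidHom.comp_apply, LinearMap.toAddMonoidHom_coe, hB, hτ0, act_one, ← map_add]
      rw [← hdiff a b p, act_eq ρ (τ (a + b)), act_eq ρ (τ a), act_eq ρ (τ b)]
      congr 1
      abel_nf
      simp [show (4 : ℤ) • p = 0 by rw [show (4 : ℤ) = 2 + 2 from rfl, add_zsmul, add_self_zero]])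
    (fun l hl => ?_)
  -- the radical
  let L : V →ₗ[ZMod 2] ZMod 2 := l.comp W₀.mkQ
  let R : Submodule (ZMod 2) Q :=
    { carrier := {u | ∀ v ∈ W₁, L (cm ρ (τ u) v) = 0}
      zero_mem' := fun v _ => by simp [hτ0, cm_one]
      add_mem' := fun {a b} ha hb v hv => by
        rw [hτadd, cm_mul, map_add, map_add, ha v hv, hb v hv,
          (mem_fixS_iff ρ).mp (F.cm_fix _ (hτ b) v hv) _ (hτ a), map_zero, add_zero, add_zero]
      smul_mem' := fun r a ha => by
        rcases zmod_two_cases r with rfl | rfl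
        · rw [zero_smul]
          exact fun v _ => by simp [hτ0, cm_one]
        · rwa [one_smul] }
  have hrad : ∀ v ∉ W₁, ∀ u : Q, (∀ x : Q, L (B v u x) = 0) → u ∈ R := by
    intro v hv u hu w hw
    obtain ⟨e, he, h⟩ := F.cm_double hv (hτ u) hw
    let a : Q := Additive.ofMul (⟨e, he⟩ : E)
    have := hu a
    rw [hB, show τ a = e from rfl, F.cm_symm he (hτ u)] at this
    rw [h]
    exact this
  have hRmem : ∀ u ∈ R, ∀ x : Q, L (B p u x) = 0 := fun u hu x => by
    rw [hB, F.cm_symm (hτ x) (hτ u)]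
    exact hu _ (F.cm_mem _ (hτ x) p)
  have hRne : R ≠ ⊤ := by
    intro hR
    apply hl
    have h1 : ∀ v ∈ commS ρ E W₁, L v = 0 := by
      have : commS ρ E W₁ ≤ LinearMap.ker L := Submodule.span_le.mpr (by
        rintro _ ⟨e, he, u, hu, rfl⟩
        have h := (hR ▸ Submodule.mem_top : (Additive.ofMul (⟨e, he⟩ : E) : Q) ∈ R)
        exact h u hu)
      exact fun v hv => this hv
    refine LinearMap.ext fun q => ?_
    obtain ⟨v, rfl⟩ := W₀.mkQ_surjective q
    obtain ⟨c, hc, b, hb, rfl⟩ := Submodule.mem_sup.mp (htop ▸ Submodule.mem_top (x := v))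
    rw [map_add, Submodule.mkQ_apply W₀ b, (Submodule.Quotient.mk_eq_zero W₀).mpr hb, add_zero]
    exact h1 c (hY hc)
  obtain ⟨R', hR'⟩ := Submodule.exists_isCompl R
  haveI : Nontrivial R' := Submodule.nontrivial_iff_ne_bot.mpr fun h => hRne (by
    have := hR'.sup_eq_top
    rwa [h, sup_bot_eq] at this)
  haveI : Fintype R := Fintype.ofFinite _
  haveI : Fintype R' := Fintype.ofFinite _
  haveI : Fintype D := Fintype.ofFinite _
  have hny := nyberg (Q := R') (A := D)
    (fun x => AddMonoidHom.mk' (fun w : D => L (cm ρ (τ x.1) w.1)) fun a b => by simp)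
    (fun w u => L.toAddMonoidHom.comp ((B w.1 u.1).comp R'.subtype.toAddMonoidHom))
    (fun w x y => by
      simp only [AddMonoidHom.mk'_apply, AddMonoidHom.comp_apply, LinearMap.toAddMonoidHom_coe,
        Submodule.coe_add, Submodule.coe_zero, Submodule.coe_subtype, hB, hτ0, cm_one, map_zero,
        add_zero, ← map_add]
      rw [hdiff])
    (fun w hw u hu => by
      have hwW : (w : V) ∉ W₁ := fun h => hw (Subtype.ext (hD _ w.2 h))
      refine Subtype.ext ((Submodule.disjoint_def.mp hR'.disjoint) _ (hrad _ hwW _ fun x => ?_) u.2)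
      obtain ⟨a, ha, b, hb, rfl⟩ := Submodule.mem_sup.mp (hR'.sup_eq_top ▸ Submodule.mem_top (x := x))
      rw [map_add, map_add, show L (B w.1 u.1 b) = 0 from hu ⟨b, hb⟩, add_zero, hB,
        ]
      exact ha _ (F.cm_mem _ (hτ _) _))
  have hU : Fintype.card (V ⧸ W₀) = Fintype.card D := by
    rw [card_eq_two_pow, card_eq_two_pow, ← hrank]
    congr 1
    have h := Submodule.finrank_sup_add_finrank_inf_eq (fixS ρ E) W₀
    rw [htop, show fixS ρ E ⊓ W₀ = ⊥ from eq_bot_iff.mpr fun v hv =>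
      (Submodule.mem_bot _).mpr (hC0 v hv.1 hv.2), finrank_top, finrank_bot] at h
    have := Submodule.finrank_quotient_add_finrank W₀
    omega
  have hQ : Fintype.card Q = Fintype.card R * Fintype.card R' := by
    rw [← Fintype.card_prod]
    exact (Fintype.card_congr (Submodule.prodEquivOfIsCompl R R' hR').toEquiv).symm
  have hle : Nat.card {u : Q // ∀ x, l ((W₀.mkQ.toAddMonoidHom.comp (B p u)) x) = 0} ≤ Fintype.card R := by
    rw [← Nat.card_eq_fintype_card (α := R)]
    exact Nat.card_le_card_of_injective (fun u => (⟨u.1, hrad p hp u.1 u.2⟩ : R))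
      fun a b h => Subtype.ext (Subtype.mk.inj h)
  calc Fintype.card (V ⧸ W₀) ^ 2 * _ ≤ Fintype.card D ^ 2 * Fintype.card R := by
        rw [hU]; exact Nat.mul_le_mul_left _ hle
    _ ≤ Fintype.card R' * Fintype.card R := Nat.mul_le_mul_right _ hny
    _ = _ := by rw [hQ, mul_comm]

end CfsgLib.StellmacherW
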