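import Cfsg.Agent.Lib.StellmacherW.Frame
import Cfsg.Agent.Lib.StellmacherW.Target

/-!
No two frames swapped by an involution generate an `S₃`-free group irreducible on the module,
unless `[W₀,E]` lies in the other subspace.
-/

set_option autoImplicit false
set_option linter.style.haveILetI false

namespace CfsgLib.StellmacherW

variable {G : Type*} [Group G] {V : Type*} [AddCommGroup V] [Module (ZMod 2) V] [Finite V]
  {ρ : Representation (ZMod 2) G V}

theorem exists_functional {p : Submodule (ZMod 2) V} (h : p ≠ ⊤) :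
    ∃ m : V →ₗ[ZMod 2] ZMod 2, m ≠ 0 ∧ ∀ v ∈ p, m v = 0 := by
  obtain ⟨m, hm, hp⟩ := Submodule.exists_dual_map_eq_bot_of_lt_top (lt_top_iff_ne_top.mpr h) inferInstance
  refine ⟨m, hm, fun v hv => ?_⟩
  have := Submodule.mem_map_of_mem (f := m) hv
  rwa [hp, Submodule.mem_bot] at this

theorem eq_zero_of_ker {m : V →ₗ[ZMod 2] ZMod 2} {p q : Submodule (ZMod 2) V} (h : p ⊔ q = ⊤)
    (hp : ∀ v ∈ p, m v = 0) (hq : ∀ v ∈ q, m v = 0) : m = 0 := by
  rw [← LinearMap.ker_eq_top, eq_top_iff, ← h]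
  exact sup_le (fun v hv => hp v hv) (fun v hv => hq v hv)

theorem kills_commS {E : Subgroup G} {U : Submodule (ZMod 2) V} {m : V →ₗ[ZMod 2] ZMod 2}
    (h : ∀ e ∈ E, ∀ v, m (cm ρ e v) = 0) : ∀ v ∈ commS ρ E U, m v = 0 := by
  have : commS ρ E U ≤ LinearMap.ker m := Submodule.span_le.mpr (by
    rintro _ ⟨e, he, u, -, rfl⟩
    exact h e he u)
  exact fun v hv => this hv

/-- A vector of a two-frame configuration fixed by the translates stabilises a subspace. -/
theorem act_mem_of_swap {E' : Subgroup G} {W₁ : Submodule (ZMod 2) V} {f : G}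
    (h : ∀ e ∈ E', ∀ v, cm ρ (f * e * f⁻¹) v ∈ W₁) {y : V} (hy : y ∈ commS ρ E' W₁) :
    ρ f y ∈ W₁ := by
  have : commS ρ E' W₁ ≤ W₁.comap (ρ f) := by
    refine Submodule.span_le.mpr ?_
    rintro _ ⟨e, he, u, -, rfl⟩
    rw [SetLike.mem_coe, Submodule.mem_comap, ← cm_conj]
    exact h e he _
  exact this hy

/-- The irreducible case. -/
theorem core_false [Finite G] (hfree : ¬ Cfsg.Involves (Equiv.Perm (Fin 3)) G) {E : Subgroup G}
    {W₀ : Submodule (ZMod 2) V} (F : Frame ρ E W₀) {x : G} (hx : x * x = 1)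
    (hirr : ∀ S : Submodule (ZMod 2) V, (∀ e ∈ E, ∀ v ∈ S, ρ e v ∈ S) → (∀ v ∈ S, ρ x v ∈ S) →
      S = ⊥ ∨ S = ⊤)
    (hY : ¬ commS ρ E W₀ ≤ W₀.map (ρ x))
    (IH : ∀ (E' : Subgroup G) (W' : Submodule (ZMod 2) V), Frame ρ E' W' → ∀ f : G, f * f = 1 →
      E' ⊔ Subgroup.zpowers f ≠ ⊤ → ∀ e ∈ E', ∀ v, cm ρ (f * e * f⁻¹) v ∈ W') : False := by
  classical
  set E' := E.map (MulAut.conj x).toMonoidHom with hE'
  set W₁ := W₀.map (ρ x) with hW₁
  set Y := commS ρ E W₀ with hYdef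
  set Y' := commS ρ E' W₁ with hY'def
  set C := fixS ρ E with hC
  set C' := fixS ρ E' with hC'
  have F' : Frame ρ E' W₁ := F.conj x
  have hxinv : x⁻¹ = x := inv_eq_of_mul_eq_one_right hx
  have xx : ∀ v, ρ x (ρ x v) = v := fun v => by rw [← act_mul, hx, act_one]
  have hE'mem : ∀ {e}, e ∈ E → x * e * x ∈ E' := fun {e} he => ⟨e, he, by simp [hxinv]⟩
  have hE'mem' : ∀ {e}, e ∈ E' → x * e * x ∈ E := fun {e} he => by
    obtain ⟨a, ha, rfl⟩ := he
    simpa [hxinv, mul_assoc, ← mul_assoc x x, hx] using ha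
  have cx : ∀ e v, cm ρ (x * e * x) (ρ x v) = ρ x (cm ρ e v) := fun e v => by
    rw [← cm_conj, hxinv]
  have hW10 : ∀ {v}, v ∈ W₁ → ρ x v ∈ W₀ := fun {v} hv => by
    obtain ⟨u, hu, rfl⟩ := hv
    rwa [xx]
  have hW01 : ∀ {v}, v ∈ W₀ → ρ x v ∈ W₁ := fun {v} hv => Submodule.mem_map_of_mem hv
  have hCC' : ∀ {v}, v ∈ C → ρ x v ∈ C' := fun {v} hv => (mem_fixS_iff ρ).mpr fun e he => by
    have h := cx (x * e * x) v
    rw [(mem_fixS_iff ρ).mp hv _ (hE'mem' he), map_zero] at h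
    simpa [mul_assoc, ← mul_assoc x x, hx] using h
  have hC'C : ∀ {v}, v ∈ C' → ρ x v ∈ C := fun {v} hv => (mem_fixS_iff ρ).mpr fun e he => by
    have h := cx (x * e * x) v
    rw [(mem_fixS_iff ρ).mp hv _ (hE'mem he), map_zero] at h
    simpa [mul_assoc, ← mul_assoc x x, hx] using h
  have hYY' : ∀ {y}, y ∈ Y → ρ x y ∈ Y' := fun {y} hy => F.map_comm x hy
  have hY'Y : ∀ {y}, y ∈ Y' → ρ x y ∈ Y := by
    have : Y' ≤ Y.comap (ρ x) := by
      refine Submodule.span_le.mpr ?_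
      rintro _ ⟨e, he, u, hu, rfl⟩
      rw [SetLike.mem_coe, Submodule.mem_comap, ← cx]
      exact cm_mem_commS ρ (hE'mem' he) (hW10 hu)
    exact fun {y} hy => this hy
  -- no common fixed points; commutators generate
  have fix0 : ∀ v, v ∈ C → v ∈ C' → v = 0 := by
    intro v hv hv'
    rcases hirr (C ⊓ C') (fun e he u hu => by rw [hu.1 e he]; exact hu)
        (fun u hu => ⟨hC'C hu.2, hCC' hu.1⟩) with h | h
    · exact (Submodule.mem_bot _).mp (h.le ⟨hv, hv'⟩)
    · exact absurd (eq_top_iff.mpr (h.ge.trans (inf_le_left.trans F.fix_le))) F.top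
  have hspan : commS ρ E ⊤ ⊔ commS ρ E' ⊤ = ⊤ := by
    have hx1 : commS ρ E ⊤ ≤ (commS ρ E' ⊤).comap (ρ x) := Submodule.span_le.mpr (by
      rintro _ ⟨e, he, u, -, rfl⟩
      rw [SetLike.mem_coe, Submodule.mem_comap, ← cx]
      exact cm_mem_commS ρ (hE'mem he) Submodule.mem_top)
    have hx2 : commS ρ E' ⊤ ≤ (commS ρ E ⊤).comap (ρ x) := Submodule.span_le.mpr (by
      rintro _ ⟨e, he, u, -, rfl⟩
      rw [SetLike.mem_coe, Submodule.mem_comap, ← cx]
      exact cm_mem_commS ρ (hE'mem' he) Submodule.mem_top)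
    refine (hirr _ (fun e he v hv => ?_) (fun v hv => ?_)).resolve_left fun h => F.nontriv ?_
    · rw [act_eq]
      exact add_mem (Submodule.mem_sup_left (cm_mem_commS ρ he Submodule.mem_top)) hv
    · obtain ⟨a, ha, b, hb, rfl⟩ := Submodule.mem_sup.mp hv
      rw [map_add]
      exact add_mem (Submodule.mem_sup_right (hx1 ha)) (Submodule.mem_sup_left (hx2 hb))
    · refine eq_bot_iff.mpr (le_trans ?_ h.le)
      exact le_trans (Submodule.span_mono fun y ⟨e, he, u, _, hy⟩ =>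
        (⟨e, he, u, Submodule.mem_top, hy⟩ : ∃ e ∈ E, ∃ u ∈ (⊤ : Submodule (ZMod 2) V), y = cm ρ e u))
        le_sup_left
  -- full rank
  have full : Y ⊔ W₁ = ⊤ := by
    by_contra hne
    obtain ⟨m, hm0, hm⟩ := exists_functional hne
    have hmY : ∀ v ∈ Y, m v = 0 := fun v hv => hm v (Submodule.mem_sup_left hv)
    have hm1 : ∀ v ∈ W₁, m v = 0 := fun v hv => hm v (Submodule.mem_sup_right hv)
    have hmE : ∃ e ∈ E, ∃ v, m (cm ρ e v) ≠ 0 := by
      by_contra hc
      push Not at hc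
      exact hm0 (eq_zero_of_ker hspan (kills_commS hc)
        (kills_commS fun e he v => hm1 _ (F'.cm_mem e he v)))
    refine hfree (dual_triangle ρ F F' m (m.comp (ρ x)) hm1 hmY hmE (fun v hv => hm1 _ (hW01 hv))
      (fun v hv => hmY _ (hY'Y hv)) ?_)
    obtain ⟨e, he, v, hv⟩ := hmE
    exact ⟨_, hE'mem he, ρ x v, by rwa [LinearMap.comp_apply, cx, xx]⟩
  have full' : Y' ⊔ W₀ = ⊤ := by
    refine eq_top_iff.mpr fun v _ => ?_
    have h : ρ x v ∈ Y ⊔ W₁ := full ▸ Submodule.mem_top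
    obtain ⟨a, ha, b, hb, hab⟩ := Submodule.mem_sup.mp h
    rw [← xx v, ← hab, map_add]
    exact add_mem (Submodule.mem_sup_left (hYY' ha)) (Submodule.mem_sup_right (hW10 hb))
  obtain ⟨w, hwY', hw0⟩ : ∃ w ∈ Y', w ∉ W₀ := by
    by_contra hc
    push Not at hc
    exact F.top (by rw [← full']; exact (sup_eq_right.mpr hc).symm)
  have hw1 : w ∈ W₁ := F'.le_top' hwY'
  have hwC' : w ∈ C' := F'.le_fix hwY'
  obtain ⟨z, hzY, hz1⟩ : ∃ z ∈ Y, z ∉ W₁ := by
    by_contra hc
    push Not at hc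
    exact hY hc
  -- the translates of a vector of `C' ⊓ W₀` fix `W₁`
  have hD : ∀ v ∈ C', v ∈ W₀ → ∀ f ∈ E, v + cm ρ f w ∈ C → v ≠ 0 →
      (∀ e ∈ E', ∀ u, cm ρ (f * e * f⁻¹) u ∈ W₁) ∧ cm ρ f v = 0 := by
    intro v hv' hv0 f hf hc hne
    have hfv : cm ρ f v = 0 := by
      have h := (mem_fixS_iff ρ).mp hc f hf
      rwa [map_add, F.cm_sq hf, add_zero] at h
    refine ⟨IH E' W₁ F' f (F.invol f hf) fun htop => hne (fix0 v ?_ hv'), hfv⟩
    letI := vecAction ρ
    have hle : E' ⊔ Subgroup.zpowers f ≤ MulAction.stabilizer G v :=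
      sup_le (fun e he => hv' e he) (Subgroup.zpowers_le.mpr ((cm_eq_zero ρ).mp hfv))
    exact fun e _ => hle (htop ▸ Subgroup.mem_top e)
  have hDD : ∀ v ∈ C', v ∈ W₀ → ∀ e ∈ E, cm ρ e v ∈ W₁ := by
    intro v hv' hv0 e he
    rcases eq_or_ne v 0 with rfl | hne
    · simp
    obtain ⟨f, hf, hfc⟩ := F.cover w hw0 v hv0
    obtain ⟨hsw, hfv⟩ := hD v hv' hv0 f hf hfc hne
    have hfw : cm ρ f w ∈ W₁ := by
      rw [cm_apply]; exact add_mem (act_mem_of_swap hsw hwY') hw1
    have hfD : ∀ u ∈ C', u ∈ W₀ → ρ f u ∈ W₁ := by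
      intro u hu' hu0
      rcases eq_or_ne u 0 with rfl | hune
      · simp
      rcases eq_or_ne u v with rfl | huv
      · rw [(cm_eq_zero ρ).mp hfv]; exact F'.fix_le hu'
      obtain ⟨g, hg, hgc⟩ := F.cover w hw0 u hu0
      have hgw : cm ρ g w ∈ W₁ := by
        rw [cm_apply]; exact add_mem (act_mem_of_swap (hD u hu' hu0 g hg hgc hune).1 hwY') hw1
      have hfgw : cm ρ (f * g) w ∈ W₁ := by
        have hc : v + u + cm ρ (f * g) w ∈ C := by
          rw [cm_mul]
          rw [show v + u + (cm ρ f w + cm ρ g w + cm ρ f (cm ρ g w)) =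
            (v + cm ρ f w) + (u + cm ρ g w) + cm ρ f (cm ρ g w) by abel]
          exact add_mem (add_mem hfc hgc) (F.cm_fix f hf _ (F.cm_mem g hg w))
        rw [cm_apply]
        refine add_mem (act_mem_of_swap (hD _ (add_mem hv' hu') (add_mem hv0 hu0) _
          (mul_mem hf hg) hc fun h => huv ?_).1 hwY') hw1
        rw [← add_zero u, ← h, ← add_assoc, add_comm u v, add_assoc, add_self_zero, add_zero]
      have hkey : cm ρ f u = cm ρ f (cm ρ g w) := by
        have h := (mem_fixS_iff ρ).mp hgc f hf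
        rw [map_add] at h
        linear_combination (norm := abel_nf) h
        simp [two_smul, add_self_zero]
      rw [act_eq, hkey]
      refine add_mem ?_ (F'.fix_le hu')
      have h := cm_mul ρ f g w
      rw [show cm ρ f (cm ρ g w) = cm ρ (f * g) w + cm ρ f w + cm ρ g w by
        rw [h]; abel_nf; simp [two_smul, add_self_zero]]
      exact add_mem (add_mem hfgw hfw) hgw
    have hfC' : ∀ c ∈ C', ρ f c ∈ W₁ := by
      intro c hc
      obtain ⟨a, ha, b, hb, hab⟩ := Submodule.mem_sup.mp (full' ▸ Submodule.mem_top (x := c))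
      have hbC : b ∈ C' := by
        have : b = c + a := by rw [← hab, add_comm, ← add_assoc, add_self_zero, zero_add]
        exact this ▸ add_mem hc (F'.le_fix ha)
      rw [← hab, map_add]
      exact add_mem (act_mem_of_swap hsw ha) (hfD b hbC hb)
    have hzf : ρ f z = z := F.le_fix hzY f hf
    have hfW : ∀ u ∈ W₁, ρ f u ∈ W₁ := by
      intro u hu
      obtain ⟨t, ht, htc⟩ := F'.cover z hz1 u hu
      have h : ρ f u = ρ f (u + cm ρ t z) + cm ρ (f * t * f⁻¹) (ρ f z) := by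
        rw [cm_conj, ← map_add, add_assoc, add_self_zero, add_zero]
      rw [h, hzf]
      exact add_mem (hfC' _ htc) (hsw t ht z)
    obtain ⟨a, ha, b, hb, hab⟩ := Submodule.mem_sup.mp (full ▸ Submodule.mem_top (x := cm ρ e w))
    have h := (mem_fixS_iff ρ).mp hfc e he
    rw [map_add, F.cm_symm he hf, ← hab, map_add, (mem_fixS_iff ρ).mp (F.le_fix ha) f hf,
      zero_add] at h
    rw [show cm ρ e v = cm ρ f b by linear_combination (norm := (abel_nf; simp [two_smul, add_self_zero])) h]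
    rw [cm_apply]
    exact add_mem (hfW b hb) hb
  have hD0 : ∀ v ∈ C', v ∈ W₀ → v = 0 := by
    intro v hv' hv0
    have hS : (C' ⊓ W₀) ⊔ (C ⊓ W₁) = ⊥ := by
      refine (hirr _ (fun e he u hu => ?_) (fun u hu => ?_)).resolve_right fun h => ?_
      · obtain ⟨a, ha, b, hb, rfl⟩ := Submodule.mem_sup.mp hu
        rw [map_add, act_eq ρ e a, hb.1 e he]
        refine add_mem (add_mem (Submodule.mem_sup_right
          ⟨F.cm_fix e he a ha.2, hDD a ha.1 ha.2 e he⟩) (Submodule.mem_sup_left ha))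
          (Submodule.mem_sup_right hb)
      · obtain ⟨a, ha, b, hb, rfl⟩ := Submodule.mem_sup.mp hu
        rw [map_add]
        exact add_mem (Submodule.mem_sup_right ⟨hC'C ha.1, hW01 ha.2⟩)
          (Submodule.mem_sup_left ⟨hCC' hb.1, hW10 hb.2⟩)
      · exact F.top (eq_top_iff.mpr (h.ge.trans (sup_le inf_le_right (inf_le_left.trans F.fix_le))))
    exact (Submodule.mem_bot _).mp (hS.le (Submodule.mem_sup_left ⟨hv', hv0⟩))
  have hC'Y' : C' ≤ Y' := fun c hc => by
    obtain ⟨a, ha, b, hb, hab⟩ := Submodule.mem_sup.mp (full' ▸ Submodule.mem_top (x := c))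
    have hbC : b ∈ C' := by
      have : b = c + a := by rw [← hab, add_comm, ← add_assoc, add_self_zero, zero_add]
      exact this ▸ add_mem hc (F'.le_fix ha)
    rw [← hab, hD0 b hbC hb, add_zero]
    exact ha
  have hCY : C ≤ Y := fun c hc => by
    rw [← xx c]; exact hY'Y (hC'Y' (hCC' hc))
  have hD0' : ∀ v ∈ C, v ∈ W₁ → v = 0 := fun v hv h1 => by
    have := hD0 _ (hCC' hv) (hW10 h1)
    rw [← xx v, this, map_zero]
  -- the triangle
  obtain ⟨e, he, hd⟩ : ∃ e ∈ E, cm ρ e w ∉ W₁ := by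
    by_contra hc
    push Not at hc
    refine hY (Submodule.span_le.mpr ?_)
    rintro _ ⟨f, hf, u, hu, rfl⟩
    obtain ⟨g, hg, h⟩ := F.cm_double hw0 hf hu
    rw [SetLike.mem_coe, h, show cm ρ f (cm ρ g w) = cm ρ (f * g) w + cm ρ f w + cm ρ g w by
      rw [cm_mul]; abel_nf; simp [two_smul, add_self_zero]]
    exact add_mem (add_mem (hc _ (mul_mem hf hg)) (hc f hf)) (hc g hg)
  set p := ρ e w with hp
  have hp1 : p ∉ W₁ := fun h => hd (by rw [cm_apply]; exact add_mem h hw1)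
  have hp0 : p ∉ W₀ := fun h => hw0 (by
    have := add_mem (F.cm_mem e he w) h
    rwa [cm_apply, hp, add_assoc, add_comm w, ← add_assoc, add_self_zero, zero_add] at this)
  obtain ⟨t, ht, hts⟩ : ∃ t ∈ E', ρ t p ∈ W₀ :=
    exists_target F' hC'Y' hD0 (eq_top_iff.mpr (full'.ge.trans (sup_le_sup_right F'.le_fix _)))
      hD0' (finrank_map_act x C ▸ (congrArg (fun S : Submodule (ZMod 2) V => Module.finrank (ZMod 2) S)
        (le_antisymm (by rintro _ ⟨v, hv, rfl⟩; exact hCC' hv)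
          (fun v hv => ⟨ρ x v, hC'C hv, xx v⟩) : C.map (ρ x) = C')).symm) hp1
  set s := ρ t p with hs
  set k := t * e with hk
  set E₂ := E'.map (MulAut.conj k).toMonoidHom with hE₂
  set W₂ := W₁.map (ρ k) with hW₂
  have F₂ : Frame ρ E₂ W₂ := F'.conj k
  have e2 := F.invol e he
  have t2 := F'.invol t ht
  have ei := inv_eq_of_mul_eq_one_right e2
  have ti := inv_eq_of_mul_eq_one_right t2
  have hsk : s = ρ k w := by rw [hs, hp, hk, act_mul]
  have htw : ρ t w = w := hwC' t ht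
  have hW : W₀ ⊔ W₁ = ⊤ := eq_top_iff.mpr (hspan.ge.trans (sup_le_sup
    (Submodule.span_le.mpr (by rintro _ ⟨g, hg, u, -, rfl⟩; exact F.cm_mem g hg u))
    (Submodule.span_le.mpr (by rintro _ ⟨g, hg, u, -, rfl⟩; exact F'.cm_mem g hg u))))
  have hW02 : W₀ ⊔ W₂ = ⊤ := by
    by_contra hne
    obtain ⟨m, hm0, hm⟩ := exists_functional hne
    letI := dualAction ρ
    set l := m.comp (ρ k) with hl
    have hl1 : ∀ v ∈ W₁, l v = 0 := fun v hv =>
      hm _ (Submodule.mem_sup_right (Submodule.mem_map_of_mem hv))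
    have hml : m ≠ l := fun h => hm0 (eq_zero_of_ker hW
      (fun v hv => hm v (Submodule.mem_sup_left hv)) (fun v hv => by rw [h]; exact hl1 v hv))
    have em : e • m = m := LinearMap.ext fun v => by
      show m (ρ e⁻¹ v) = m v
      rw [ei, act_eq, map_add, hm _ (Submodule.mem_sup_left (F.cm_mem e he v)), zero_add]
    have tl : t • l = l := LinearMap.ext fun v => by
      show l (ρ t⁻¹ v) = l v
      rw [ti, act_eq, map_add, hl1 _ (F'.cm_mem t ht v), zero_add]
    have el : e • (t • m) = l := LinearMap.ext fun v => by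
      show m (ρ t⁻¹ (ρ e⁻¹ v)) = m (ρ k v)
      rw [ei, ti, hk, act_mul]
    have hep : e • l = t • m := by rw [← el, ← mul_smul e e, e2, one_smul]
    have htp : t • (t • m) = m := by rw [← mul_smul t t, t2, one_smul]
    have h1 : t • m ≠ m := fun h => hml (by rw [← el, h, em])
    have h2 : l ≠ t • m := fun h => hml (by
      calc m = t • (t • m) := htp.symm
        _ = t • l := by rw [h]
        _ = l := tl)
    exact hfree (involves_three h2 h1 hml.symm hep el em tl htp rfl)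
  have hfr : Module.finrank (ZMod 2) W₂ = Module.finrank (ZMod 2) W₁ :=
    finrank_map_act k W₁
  have hfrW : Module.finrank (ZMod 2) W₁ = Module.finrank (ZMod 2) W₀ := finrank_map_act x W₀
  have hsum : Module.finrank (ZMod 2) C + Module.finrank (ZMod 2) W₀ = Module.finrank (ZMod 2) V := by
    have h := Submodule.finrank_sup_add_finrank_inf_eq C W₁
    rw [show C ⊔ W₁ = ⊤ from eq_top_iff.mpr (full.ge.trans (sup_le_sup_right F.le_fix _)),
      show C ⊓ W₁ = ⊥ from eq_bot_iff.mpr fun v hv =>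
        (Submodule.mem_bot _).mpr (hD0' v hv.1 hv.2), finrank_top, finrank_bot, add_zero, hfrW] at h
    omega
  have hfrC : Module.finrank (ZMod 2) C' = Module.finrank (ZMod 2) C := by
    rw [show C' = C.map (ρ x) from le_antisymm (fun v hv => ⟨ρ x v, hC'C hv, xx v⟩)
      (by rintro _ ⟨v, hv, rfl⟩; exact hCC' hv)]
    exact finrank_map_act x C
  have hsC2 : s ∈ C'.map (ρ k) := ⟨w, hwC', hsk.symm⟩
  have hC2fix : C'.map (ρ k) ≤ fixS ρ E₂ := by
    rintro _ ⟨c, hc, rfl⟩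
    refine (mem_fixS_iff ρ).mpr ?_
    rintro _ ⟨a, ha, rfl⟩
    show cm ρ (k * a * k⁻¹) (ρ k c) = 0
    rw [cm_conj, (mem_fixS_iff ρ).mp hc a ha, map_zero]
  have hC2Y : ∀ v ∈ C'.map (ρ k), v ∈ commS ρ E₂ W₂ := by
    rintro _ ⟨c, hc, rfl⟩
    exact F'.map_comm k (hC'Y' hc)
  have hY2 : ∀ v ∈ commS ρ E₂ W₂, v ∈ C'.map (ρ k) := by
    have : commS ρ E₂ W₂ ≤ C'.map (ρ k) := Submodule.span_le.mpr (by
      rintro _ ⟨_, ⟨a, ha, rfl⟩, _, ⟨u, hu, rfl⟩, rfl⟩
      exact ⟨cm ρ a u, F'.cm_fix a ha u hu, (cm_conj ρ k a u).symm⟩)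
    exact this
  have hs0 : s ≠ 0 := fun h => by
    apply hp0
    rw [show p = ρ t s by rw [hs, ← act_mul, t2, act_one], h, map_zero]
    exact zero_mem _
  have hCW2 : ∀ v ∈ C, v ∈ W₂ → v = 0 := by
    by_cases htop : C ⊔ W₂ = ⊤
    · intro v hv hv2
      have h := Submodule.finrank_sup_add_finrank_inf_eq C W₂
      rw [htop, finrank_top, hfr, hfrW, hsum] at h
      have : C ⊓ W₂ = ⊥ := Submodule.finrank_eq_zero.mp (by omega)
      exact (Submodule.mem_bot _).mp (this.le ⟨hv, hv2⟩)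
    exfalso
    obtain ⟨m, hm0, hm⟩ := exists_functional htop
    have hne : W₀ ⊔ C'.map (ρ k) ≠ ⊤ := fun h => by
      have h1 := Submodule.finrank_sup_add_finrank_inf_eq W₀ (C'.map (ρ k))
      rw [h, finrank_top, finrank_map_act k C', hfrC] at h1
      have : W₀ ⊓ C'.map (ρ k) = ⊥ := Submodule.finrank_eq_zero.mp (by omega)
      exact hs0 ((Submodule.mem_bot _).mp (this.le ⟨hts, hsC2⟩))
    obtain ⟨l, hl0, hl⟩ := exists_functional hne
    refine hfree (dual_triangle ρ F F₂ m l (fun v hv => hm v (Submodule.mem_sup_right hv))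
      (fun v hv => hm v (Submodule.mem_sup_left (F.le_fix hv))) ?_
      (fun v hv => hl v (Submodule.mem_sup_left hv))
      (fun v hv => hl v (Submodule.mem_sup_right (hY2 v hv))) ?_)
    · by_contra hc
      push Not at hc
      refine hm0 (eq_zero_of_ker hW02 (fun v hv => ?_) (fun v hv => hm v (Submodule.mem_sup_right hv)))
      obtain ⟨g, hg, h⟩ := F.cover w hw0 v hv
      have h1 := hm _ (Submodule.mem_sup_left h)
      rwa [map_add, hc g hg, add_zero] at h1
    · by_contra hc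
      push Not at hc
      refine hl0 (eq_zero_of_ker hW02 (fun v hv => hl v (Submodule.mem_sup_left hv)) (fun v hv => ?_))
      obtain ⟨u, hu⟩ : ∃ u, u ∉ W₂ := by
        by_contra h; push Not at h; exact F₂.top (eq_top_iff.mpr fun u _ => h u)
      obtain ⟨g, hg, h⟩ := F₂.cover u hu v hv
      have hfix2 : fixS ρ E₂ ≤ C'.map (ρ k) := fun y hy => by
        refine ⟨ρ k⁻¹ y, (mem_fixS_iff ρ).mpr fun a ha => ?_, act_inv' ρ k y⟩
        have h1 : cm ρ (k * a * k⁻¹) y = 0 :=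
          (mem_fixS_iff ρ).mp hy _ ⟨a, ha, rfl⟩
        rw [← act_inv' ρ k y, cm_conj] at h1
        exact act_injective ρ k (h1.trans (map_zero _).symm)
      have h1 := hl _ (Submodule.mem_sup_right (hfix2 h))
      rwa [map_add, hc g hg, add_zero] at h1
  have hes : ρ e s = s := by
    by_contra hes
    obtain ⟨f, hf, hfc⟩ := F.cover w hw0 s hts
    have hfs : cm ρ f s = 0 := by
      have h := (mem_fixS_iff ρ).mp hfc f hf
      rwa [map_add, F.cm_sq hf, add_zero] at h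
    have hsw : ∀ a ∈ E₂, ∀ u, cm ρ (f * a * f⁻¹) u ∈ W₂ := by
      refine IH E₂ W₂ F₂ f (F.invol f hf) fun htop => hes ?_
      letI := vecAction ρ
      have hle : E₂ ⊔ Subgroup.zpowers f ≤ MulAction.stabilizer G s :=
        sup_le (fun a ha => hC2fix hsC2 a ha) (Subgroup.zpowers_le.mpr ((cm_eq_zero ρ).mp hfs))
      exact hle (htop ▸ Subgroup.mem_top e)
    have hzC : z ∈ C := F.le_fix hzY
    have hz2 : z ∉ W₂ := fun h => hz1 (hCW2 z hzC h ▸ zero_mem _)
    have hfW : ∀ u ∈ W₂, ρ f u ∈ W₂ := by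
      intro u hu
      obtain ⟨a, ha, hac⟩ := F₂.cover z hz2 u hu
      have h : ρ f u = ρ f (u + cm ρ a z) + cm ρ (f * a * f⁻¹) (ρ f z) := by
        rw [cm_conj, ← map_add, add_assoc, add_self_zero, add_zero]
      rw [h, hzC f hf]
      refine add_mem (act_mem_of_swap hsw (hC2Y _ ?_)) (hsw a ha z)
      refine ⟨ρ k⁻¹ _, (mem_fixS_iff ρ).mpr fun b hb => ?_, act_inv' ρ k _⟩
      have h1 : cm ρ (k * b * k⁻¹) (u + cm ρ a z) = 0 :=
        (mem_fixS_iff ρ).mp hac _ ⟨b, hb, rfl⟩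
      rw [← act_inv' ρ k (u + cm ρ a z), cm_conj] at h1
      exact act_injective ρ k (h1.trans (map_zero _).symm)
    have htop : C ⊔ W₂ = ⊤ := by
      apply Submodule.eq_top_of_finrank_eq
      have h := Submodule.finrank_sup_add_finrank_inf_eq C W₂
      rw [show C ⊓ W₂ = ⊥ from eq_bot_iff.mpr fun v hv =>
        (Submodule.mem_bot _).mpr (hCW2 v hv.1 hv.2), finrank_bot, hfr, hfrW, hsum] at h
      omega
    obtain ⟨a, ha, b, hb, hab⟩ := Submodule.mem_sup.mp (htop ▸ Submodule.mem_top (x := cm ρ e w))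
    have h := (mem_fixS_iff ρ).mp hfc e he
    rw [map_add, F.cm_symm he hf, ← hab, map_add, (mem_fixS_iff ρ).mp ha f hf, zero_add] at h
    have h2 : cm ρ e s ∈ W₂ := by
      rw [show cm ρ e s = cm ρ f b by
        linear_combination (norm := (abel_nf; simp [two_smul, add_self_zero])) h, cm_apply]
      exact add_mem (hfW b hb) hb
    exact hes ((cm_eq_zero ρ).mp (hCW2 _ (F.cm_fix e he s hts) h2))
  letI := vecAction ρ
  refine hfree (involves_three (G := G) (α := V) (e := e) (t := t) (a := w) (b := p) (c := s)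
    (fun h => hp1 (h ▸ hw1)) (fun h => hp0 (h ▸ hts)) (fun h => hw0 (h ▸ hts))
    rfl ?_ hes htw rfl ?_)
  · show ρ e p = w
    rw [hp, ← act_mul, e2, act_one]
  · show ρ t s = p
    rw [hs, ← act_mul, t2, act_one]

end CfsgLib.StellmacherW
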