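import Mathlib
import Cfsg.Prelude.Def_FusionReduction
import Cfsg.Agent.Lib.Fusion.FunctorControl
import Cfsg.Agent.Lib.Fusion.FreeSolvable
import Cfsg.Agent.Lib.Fusion.GroupModel
import Cfsg.Agent.Lib.Fusion.ModelExists
import Cfsg.Agent.Lib.ZJ.Centers

/-!
Consequences of a functor which is normal in the constrained groups not involving the symmetric
group of degree four, and lies between `Ω₁(Z)` and `Ω₁(Z(J))`.
-/

set_option autoImplicit false
set_option linter.style.haveILetI false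

namespace CfsgLib.StellmacherW.Derived

open Cfsg Cfsg.FusionSystem

universe u

/-- The properties required of a functor on two-groups. -/
structure GoodFunctor (W : ∀ (Q : Type u) [Group Q], Subgroup Q) : Prop where
  map_eq : ∀ (Q R : Type u) [Group Q] [Group R] [Finite Q], IsPGroup 2 Q → ∀ φ : Q ≃* R,
    (W Q).map φ.toMonoidHom = W R
  omega_le : ∀ (Q : Type u) [Group Q] [Finite Q], IsPGroup 2 Q →
    Cfsg.omegaOne 2 (Subgroup.center Q) ≤ W Q
  le_omega : ∀ (Q : Type u) [Group Q] [Finite Q], IsPGroup 2 Q →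
    W Q ≤ Cfsg.omegaCenterThompson 2 Q
  normal : ∀ (L : Type u) [Group L] [Finite L] (P : Sylow 2 L),
    Subgroup.centralizer ((Cfsg.pCore 2 L : Subgroup L) : Set L) ≤ Cfsg.pCore 2 L →
    ¬ Cfsg.Involves (Equiv.Perm (Fin 4)) L →
    ((W ↥(P : Subgroup L)).map (P : Subgroup L).subtype).Normal

variable {W : ∀ (Q : Type u) [Group Q], Subgroup Q}

theorem GoodFunctor.ne_bot (h : GoodFunctor W) (Q : Type u) [Group Q] [Finite Q]
    (hQ : IsPGroup 2 Q) (hn : Nontrivial Q) : W Q ≠ ⊥ := by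
  haveI : Fact (Nat.Prime 2) := ⟨Nat.prime_two⟩
  haveI := hn
  haveI := hQ.center_nontrivial
  obtain ⟨n, hn0, hn2⟩ := (hQ.to_subgroup (Subgroup.center Q)).nontrivial_iff_card.mp inferInstance
  obtain ⟨z, hz⟩ := exists_prime_orderOf_dvd_card' (G := ↥(Subgroup.center Q)) 2
    (hn2 ▸ dvd_pow_self 2 hn0.ne')
  intro hb
  have h2 : (z : Q) ^ 2 = 1 := by
    have := pow_orderOf_eq_one z
    rw [hz] at this
    exact congrArg Subtype.val this
  have h1 : (z : Q) ∈ W Q := h.omega_le Q hQ (Subgroup.subset_closure ⟨z.2, h2⟩)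
  rw [hb, Subgroup.mem_bot] at h1
  rw [orderOf_eq_one_iff.mpr (Subtype.ext h1)] at hz
  omega

theorem GoodFunctor.characteristic (h : GoodFunctor W) (Q : Type u) [Group Q] [Finite Q]
    (hQ : IsPGroup 2 Q) : (W Q).Characteristic :=
  Subgroup.characteristic_iff_map_eq.mpr fun φ => h.map_eq Q Q hQ φ

theorem GoodFunctor.normal_range (h : GoodFunctor W) {S : Type u} [Group S] [Finite S]
    (hS : IsPGroup 2 S) {G : Type u} [Group G] [Finite G] (τ : S →* G)
    (hτ : Function.Injective τ) (hP : ∃ P : Sylow 2 G, (P : Subgroup G) = τ.range)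
    (hfree : ¬ Cfsg.Involves (Equiv.Perm (Fin 4)) G)
    (hc : Subgroup.centralizer (Cfsg.pCore 2 G : Set G) ≤ Cfsg.pCore 2 G) :
    ((W S).map τ).Normal := by
  obtain ⟨P, hPr⟩ := hP
  let e : S ≃* ↥(P : Subgroup G) :=
    (MonoidHom.ofInjective hτ).trans (MulEquiv.subgroupCongr hPr.symm)
  have hn := h.normal G P hc hfree
  rw [← h.map_eq S _ hS e, Subgroup.map_map] at hn
  have he : (P : Subgroup G).subtype.comp e.toMonoidHom = τ := by
    ext s
    rfl
  rwa [he] at hn

variable {Ω : Type u} [Group Ω] {S : Subgroup Ω} [Finite S]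

theorem GoodFunctor.isNormal (h : GoodFunctor W) {F : FusionSystem S} (hS : IsPGroup 2 S)
    (hF : F.IsSaturated 2) (hfree : F.IsSectionFree 2 (Equiv.Perm (Fin 4))) :
    F.IsNormal (CfsgLib.Fusion.functorOf W S) :=
  haveI : Fact (Nat.Prime 2) := ⟨Nat.prime_two⟩
  CfsgLib.Fusion.isNormal_functorOf_of_sectionFree W h.ne_bot
    (fun Q R _ _ _ hQ φ => h.map_eq Q R hQ φ) h.normal hS hF hfree

theorem GoodFunctor.isConstrained (h : GoodFunctor W) {F : FusionSystem S} (hS : IsPGroup 2 S)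
    (hF : F.IsSaturated 2) (hfree : F.IsSectionFree 2 (Equiv.Perm (Fin 4))) :
    F.IsConstrained 2 :=
  haveI : Fact (Nat.Prime 2) := ⟨Nat.prime_two⟩
  CfsgLib.Fusion.isConstrained_of_sectionFree W h.ne_bot
    (fun Q R _ _ _ hQ φ => h.map_eq Q R hQ φ) h.normal hS hF hfree

theorem GoodFunctor.exists_characteristic_normal (h : GoodFunctor W) (hS : IsPGroup 2 S)
    (hS1 : S ≠ ⊥) :
    ∃ U : Subgroup Ω, U ≤ S ∧ U ≠ ⊥ ∧ (U.subgroupOf S).Characteristic ∧
      ∀ F : FusionSystem S, F.IsSaturated 2 →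
        F.IsSectionFree 2 (Equiv.Perm (Fin 4)) → F.IsNormal U := by
  refine ⟨CfsgLib.Fusion.functorOf W S, CfsgLib.Fusion.functorOf_le W S, ?_, ?_,
    fun F hF hfree => h.isNormal hS hF hfree⟩
  · intro hb
    rw [CfsgLib.Fusion.functorOf, Subgroup.map_eq_bot_iff_of_injective _ S.subtype_injective] at hb
    exact h.ne_bot ↥S hS (S.nontrivial_iff_ne_bot.mpr hS1) hb
  · have : (CfsgLib.Fusion.functorOf W S).subgroupOf S = W ↥S :=
      Subgroup.comap_map_eq_self_of_injective S.subtype_injective _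
    rw [this]
    exact h.characteristic ↥S hS

theorem GoodFunctor.realizable_solvable (h : GoodFunctor W) {F : FusionSystem S}
    (hS : IsPGroup 2 S) (hF : F.IsSaturated 2)
    (hfree : F.IsSectionFree 2 (Equiv.Perm (Fin 4))) :
    F.IsRealizable 2 ∧ F.IsSolvableSystem := by
  haveI : Fact (Nat.Prime 2) := ⟨Nat.prime_two⟩
  have hcon := h.isConstrained hS hF hfree
  obtain ⟨G, _, ι, hG⟩ := CfsgLib.Fusion.exists_model hS hcon
  have : Finite G := hG.1
  obtain ⟨T, hT⟩ := hG.2.2.1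
  exact ⟨⟨G, inferInstance, inferInstance, ι, hG.2.1, T, hT⟩,
    CfsgLib.Fusion.isSolvableSystem_of_free_group W h.ne_bot
      (fun Q R _ _ _ hQ φ => h.map_eq Q R hQ φ) h.normal hG.2.1 T hT
      (CfsgLib.Fusion.not_involves_of_model hS hcon hfree hG)⟩

/-- The bounds, inside an ambient group. -/
theorem GoodFunctor.bounds {G : Type u} [Group G] [Finite G] (h : GoodFunctor W) (P : Subgroup G)
    (hP : IsPGroup 2 P) :
    Cfsg.omegaOne 2 ((Subgroup.center ↥P).map P.subtype) ≤ CfsgLib.Fusion.functorOf W P ∧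
      CfsgLib.Fusion.functorOf W P ≤ Cfsg.omegaOne 2 (Cfsg.centerThompsonOf 2 P) := by
  refine ⟨?_, ?_⟩
  · rw [← CfsgLib.ZJ.map_omegaOne 2 P.subtype P.subtype_injective.injOn]
    exact Subgroup.map_mono (h.omega_le _ hP)
  · rw [CfsgLib.ZJ.centerThompsonOf_eq, ← CfsgLib.ZJ.map_omegaCenterThompson]
    exact Subgroup.map_mono (h.le_omega _ hP)

/-- Control of strong fusion in a group not involving the symmetric group of degree four. -/
theorem GoodFunctor.controls {G : Type u} [Group G] [Finite G] (h : GoodFunctor W)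
    (hfree : ¬ Cfsg.Involves (Equiv.Perm (Fin 4)) G) (P : Sylow 2 G) (A : Set G)
    (hA : A ⊆ (P : Subgroup G)) :
    Cfsg.ControlsStrongFusionOf
      (Subgroup.normalizer ((CfsgLib.Fusion.functorOf W (P : Subgroup G) : Subgroup G) : Set G))
      (P : Subgroup G) A := by
  haveI : Fact (Nat.Prime 2) := ⟨Nat.prime_two⟩
  have hn := h.isNormal P.isPGroup' (CfsgLib.Fusion.isSaturated_group (S := P))
    (CfsgLib.Fusion.isSectionFree_group P hfree)
  set U := CfsgLib.Fusion.functorOf W (P : Subgroup G)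
  refine ⟨hA, fun g hg => ?_⟩
  have hcl : Subgroup.closure A ≤ (P : Subgroup G) := (Subgroup.closure_le _).mpr hA
  have hcl' : Subgroup.closure A ≤
      (P : Subgroup G).comap (MulAut.conj g).toMonoidHom :=
    (Subgroup.closure_le _).mpr fun a ha => hg ⟨a, ha, rfl⟩
  have hφ : Cfsg.conjHom (Subgroup.closure A) g ∈
      (Cfsg.groupFusionSystem (P : Subgroup G)).Hom (Subgroup.closure A) :=
    ⟨hcl, fun x => hcl' x.2, g, fun _ => rfl⟩
  obtain ⟨ψ, hψ, hag, him⟩ := hn.2 _ _ hφ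
  obtain ⟨-, -, x, hx⟩ := hψ
  refine ⟨x, ?_, fun a ha => ?_⟩
  · refine Subgroup.mem_normalizer_fintype fun u hu => ?_
    rw [SetLike.mem_coe, ← him]
    exact ⟨⟨u, Subgroup.mem_sup_right hu⟩, hu, hx _⟩
  · have ha' : a ∈ Subgroup.closure A := Subgroup.subset_closure ha
    have h1 := (hag ⟨a, ha'⟩).symm.trans (hx _)
    exact h1

end CfsgLib.StellmacherW.Derived
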