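import Mathlib
import Cfsg.Agent.Lib.Fusion.QdFreeFunctor
import Cfsg.Agent.Lib.Fusion.ModelExists

/-!
The odd-prime companions of the consequences of Stellmacher's functor, and transport of the
absent section along an isomorphism.
-/

set_option autoImplicit false
set_option linter.style.haveILetI false

namespace CfsgLib.StellmacherW.Derived

open Cfsg Cfsg.FusionSystem

universe u v w

variable {Ω : Type u} [Group Ω] {S : Subgroup Ω} {F : FusionSystem S} {p : ℕ}

/-- Being free of a section depends only on its isomorphism type. -/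
theorem sectionFree_congr {H : Type v} [Group H] {H' : Type w} [Group H'] (e : Nonempty (H ≃* H'))
    (h : F.IsSectionFree p H) : F.IsSectionFree p H' := by
  obtain ⟨e⟩ := e
  intro Q hn hc N hN L _ ι hL hinv
  obtain ⟨K, ψ, hψ⟩ := CfsgLib.Offender.exists_hom_of_involves hinv
  exact h Q hn hc N hN L ι hL (CfsgLib.Offender.involves_of_hom (e.symm.toMonoidHom.comp ψ)
    (e.symm.surjective.comp hψ))

variable [Fact p.Prime] [Finite S]

theorem exists_characteristic_normal_odd (hp : p ≠ 2) (hS : IsPGroup p S) (hS1 : S ≠ ⊥)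
    (hF : F.IsSaturated p) (hfree : F.IsSectionFree p ↥(Cfsg.qd p)) :
    ∃ W : Subgroup Ω, W ≤ S ∧ W ≠ ⊥ ∧ (W.subgroupOf S).Characteristic ∧ F.IsNormal W := by
  refine ⟨CfsgLib.Fusion.functorOf CfsgLib.Fusion.zjFunctor S,
    CfsgLib.Fusion.functorOf_le _ S, ?_, ?_,
    CfsgLib.Fusion.isNormal_zjFunctor_of_qdFree hp hS hF hfree⟩
  · intro hb
    rw [CfsgLib.Fusion.functorOf,
      Subgroup.map_eq_bot_iff_of_injective _ S.subtype_injective] at hb
    exact CfsgLib.Fusion.zjFunctor_ne_bot ↥S hS (S.nontrivial_iff_ne_bot.mpr hS1) hb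
  · rw [CfsgLib.Fusion.functorOf,
      show ((CfsgLib.Fusion.zjFunctor ↥S).map S.subtype).subgroupOf S =
        CfsgLib.Fusion.zjFunctor ↥S from
        Subgroup.comap_map_eq_self_of_injective S.subtype_injective _]
    exact Subgroup.characteristic_iff_map_eq.mpr
      fun φ => CfsgLib.Fusion.zjFunctor_map _ _ hS φ

theorem realizable_solvable_odd (hp : p ≠ 2) (hS : IsPGroup p S) (hF : F.IsSaturated p)
    (hfree : F.IsSectionFree p ↥(Cfsg.qd p)) : F.IsRealizable p ∧ F.IsSolvableSystem := by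
  have hcon := CfsgLib.Fusion.isConstrained_of_qdFree hp hS hF hfree
  obtain ⟨G, _, ι, hG⟩ := CfsgLib.Fusion.exists_model hS hcon
  have : Finite G := hG.1
  obtain ⟨T, hT⟩ := hG.2.2.1
  exact ⟨⟨G, inferInstance, inferInstance, ι, hG.2.1, T, hT⟩,
    CfsgLib.Fusion.isSolvableSystem_of_free_group CfsgLib.Fusion.zjFunctor
      CfsgLib.Fusion.zjFunctor_ne_bot
      (fun Q R _ _ _ hQ φ => CfsgLib.Fusion.zjFunctor_map Q R hQ φ)
      (CfsgLib.Fusion.zjFunctor_normal hp) hG.2.1 T hT
      (CfsgLib.Fusion.not_involves_of_model hS hcon hfree hG)⟩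

end CfsgLib.StellmacherW.Derived
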