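import Mathlib
import Cfsg.Prelude.Def_LocalEven
import Cfsg.Agent.Lib.Offender.Involves

/-!
Frames: an elementary group `E` acting on a module `V` over `𝔽₂` with a subspace `W₀` such that
`[V,E] ≤ W₀`, `C(E) ≤ W₀` and `W₀ = [w,E] + C(E)` for every `w ∉ W₀`.
-/

set_option autoImplicit false

namespace CfsgLib.StellmacherW

section Triangle

variable {G α : Type*} [Group G] [MulAction G α]

theorem perm_three_cases : ∀ σ : Equiv.Perm (Fin 3),
    σ = 1 ∨ σ = Equiv.swap 0 1 ∨ σ = Equiv.swap 1 2 ∨ σ = Equiv.swap 0 1 * Equiv.swap 1 2 ∨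
      σ = Equiv.swap 1 2 * Equiv.swap 0 1 ∨
      σ = Equiv.swap 0 1 * Equiv.swap 1 2 * Equiv.swap 0 1 := by decide

/-- Two elements permuting three points as two different transpositions involve `S₃`. -/
theorem involves_three {e t : G} {a b c : α} (hab : a ≠ b) (hbc : b ≠ c) (hac : a ≠ c)
    (ea : e • a = b) (eb : e • b = a) (ec : e • c = c)
    (ta : t • a = a) (tb : t • b = c) (tc : t • c = b) :
    Cfsg.Involves (Equiv.Perm (Fin 3)) G := by
  classical
  let u : Fin 3 → α := ![a, b, c]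
  have hu : Function.Injective u := by
    intro i j h
    fin_cases i <;> fin_cases j <;> simp_all [u] <;>
      first | exact absurd h.symm hab | exact absurd h.symm hbc | exact absurd h.symm hac
  let K : Subgroup G :=
    { carrier := {g | ∃ σ : Equiv.Perm (Fin 3), ∀ i, g • u i = u (σ i)}
      one_mem' := ⟨1, fun i => one_smul G _⟩
      mul_mem' := fun {g h} ⟨σ, hσ⟩ ⟨τ, hτ⟩ => ⟨σ * τ, fun i => by
        rw [mul_smul, hτ, hσ, Equiv.Perm.mul_apply]⟩
      inv_mem' := fun {g} ⟨σ, hσ⟩ => ⟨σ⁻¹, fun i => by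
        rw [inv_smul_eq_iff, hσ]
        simp⟩ }
  have hun : ∀ (g : G) (σ τ : Equiv.Perm (Fin 3)), (∀ i, g • u i = u (σ i)) →
      (∀ i, g • u i = u (τ i)) → σ = τ := fun g σ τ h1 h2 =>
    Equiv.ext fun i => hu ((h1 i).symm.trans (h2 i))
  let ψ : K →* Equiv.Perm (Fin 3) :=
    { toFun := fun k => k.2.choose
      map_one' := hun 1 _ 1 (1 : K).2.choose_spec fun i => one_smul G _
      map_mul' := fun k k' => hun _ _ _ (k * k').2.choose_spec fun i => by
        rw [Subgroup.coe_mul, mul_smul, k'.2.choose_spec i, k.2.choose_spec, Equiv.Perm.mul_apply] }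
  have hψ : ∀ (g : G) (σ : Equiv.Perm (Fin 3)) (h : ∀ i, g • u i = u (σ i)),
      ψ ⟨g, σ, h⟩ = σ := fun g σ h =>
    hun g _ σ (Exists.choose_spec (p := fun σ : Equiv.Perm (Fin 3) =>
      ∀ i, g • u i = u (σ i)) ⟨σ, h⟩) h
  refine CfsgLib.Offender.involves_of_hom ψ fun σ => ?_
  have h0 : Equiv.swap 0 1 ∈ ψ.range := ⟨_, hψ e _ fun i => by
    fin_cases i <;> simp [u, Equiv.swap_apply_def, ea, eb, ec]⟩
  have h1 : Equiv.swap 1 2 ∈ ψ.range := ⟨_, hψ t _ fun i => by
    fin_cases i <;> simp [u, Equiv.swap_apply_def, ta, tb, tc]⟩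
  have : σ ∈ ψ.range := by
    rcases perm_three_cases σ with rfl | rfl | rfl | rfl | rfl | rfl
    exacts [one_mem _, h0, h1, mul_mem h0 h1, mul_mem h1 h0, mul_mem (mul_mem h0 h1) h0]
  exact this

end Triangle

variable {G : Type*} [Group G] {V : Type*} [AddCommGroup V] [Module (ZMod 2) V]
  (ρ : Representation (ZMod 2) G V)

omit [Module (ZMod 2) V] in
theorem add_self_zero [Module (ZMod 2) V] (v : V) : v + v = 0 := by
  rw [← one_smul (ZMod 2) v, ← add_smul, show (1 : ZMod 2) + 1 = 0 from rfl, zero_smul]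

/-- The commutator `[v, g]`. -/
def cm (g : G) : V →ₗ[ZMod 2] V := ρ g + LinearMap.id

theorem cm_apply (g : G) (v : V) : cm ρ g v = ρ g v + v := rfl

theorem act_eq (g : G) (v : V) : ρ g v = cm ρ g v + v := by
  rw [cm_apply, add_assoc, add_self_zero, add_zero]

theorem act_mul (g h : G) (v : V) : ρ (g * h) v = ρ g (ρ h v) := by
  rw [map_mul]; rfl

theorem act_one (v : V) : ρ 1 v = v := by rw [map_one]; rfl

theorem act_inv (g : G) (v : V) : ρ g⁻¹ (ρ g v) = v := by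
  rw [← act_mul, inv_mul_cancel, act_one]

theorem act_inv' (g : G) (v : V) : ρ g (ρ g⁻¹ v) = v := by
  rw [← act_mul, mul_inv_cancel, act_one]

theorem act_injective (g : G) : Function.Injective (ρ g) :=
  Function.LeftInverse.injective (act_inv ρ g)

theorem cm_one (v : V) : cm ρ 1 v = 0 := by rw [cm_apply, act_one, add_self_zero]

theorem cm_mul (g h : G) (v : V) : cm ρ (g * h) v = cm ρ g v + cm ρ h v + cm ρ g (cm ρ h v) := by
  rw [cm_apply, act_mul, act_eq ρ h v, map_add, act_eq ρ g (cm ρ h v)]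
  rw [act_eq ρ g v]
  calc _ = cm ρ g v + cm ρ h v + cm ρ g (cm ρ h v) + (v + v) := by abel
    _ = _ := by rw [add_self_zero, add_zero]

theorem cm_eq_zero {g : G} {v : V} : cm ρ g v = 0 ↔ ρ g v = v := by
  constructor
  · intro h; rw [act_eq, h, zero_add]
  · intro h; rw [cm_apply, h, add_self_zero]

theorem cm_conj (g h : G) (v : V) : cm ρ (g * h * g⁻¹) (ρ g v) = ρ g (cm ρ h v) := by
  rw [cm_apply, cm_apply, act_mul, act_mul, act_inv, map_add]

/-- The fixed space of a subgroup. -/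
def fixS (E : Subgroup G) : Submodule (ZMod 2) V where
  carrier := {v | ∀ e ∈ E, ρ e v = v}
  add_mem' := fun ha hb e he => by rw [map_add, ha e he, hb e he]
  zero_mem' := fun e _ => map_zero _
  smul_mem' := fun r v hv e he => by rw [map_smul, hv e he]

theorem mem_fixS {E : Subgroup G} {v : V} : v ∈ fixS ρ E ↔ ∀ e ∈ E, ρ e v = v := Iff.rfl

theorem mem_fixS_iff {E : Subgroup G} {v : V} : v ∈ fixS ρ E ↔ ∀ e ∈ E, cm ρ e v = 0 := by
  simp only [mem_fixS, cm_eq_zero]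

/-- `[U, E]`. -/
def commS (E : Subgroup G) (U : Submodule (ZMod 2) V) : Submodule (ZMod 2) V :=
  Submodule.span (ZMod 2) {y | ∃ e ∈ E, ∃ u ∈ U, y = cm ρ e u}

theorem cm_mem_commS {E : Subgroup G} {U : Submodule (ZMod 2) V} {e : G} (he : e ∈ E) {u : V}
    (hu : u ∈ U) : cm ρ e u ∈ commS ρ E U :=
  Submodule.subset_span ⟨e, he, u, hu, rfl⟩

/-- A frame. -/
structure Frame (E : Subgroup G) (W₀ : Submodule (ZMod 2) V) : Prop where
  invol : ∀ e ∈ E, e * e = 1
  top : W₀ ≠ ⊤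
  cm_mem : ∀ e ∈ E, ∀ v, cm ρ e v ∈ W₀
  fix_le : fixS ρ E ≤ W₀
  cm_fix : ∀ e ∈ E, ∀ u ∈ W₀, cm ρ e u ∈ fixS ρ E
  cover : ∀ w ∉ W₀, ∀ u ∈ W₀, ∃ e ∈ E, u + cm ρ e w ∈ fixS ρ E
  image : ∀ w ∉ W₀, ∀ e ∈ E, ∀ v, ∃ f ∈ E, cm ρ e v + cm ρ f w ∈ commS ρ E W₀
  nontriv : commS ρ E W₀ ≠ ⊥

namespace Frame

variable {ρ} {E : Subgroup G} {W₀ : Submodule (ZMod 2) V} (F : Frame ρ E W₀)

include F

theorem comm {e f : G} (he : e ∈ E) (hf : f ∈ E) : e * f = f * e := by
  have he' : e⁻¹ = e := inv_eq_of_mul_eq_one_right (F.invol e he)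
  have hf' : f⁻¹ = f := inv_eq_of_mul_eq_one_right (F.invol f hf)
  have hef : (e * f)⁻¹ = e * f := inv_eq_of_mul_eq_one_right (F.invol _ (mul_mem he hf))
  rw [← hef, mul_inv_rev, he', hf']

theorem cm_symm {e f : G} (he : e ∈ E) (hf : f ∈ E) (v : V) :
    cm ρ e (cm ρ f v) = cm ρ f (cm ρ e v) := by
  have h := congrArg (fun g => cm ρ g v) (F.comm he hf)
  simp only [cm_mul] at h
  linear_combination (norm := abel) h

theorem cm_sq {e : G} (he : e ∈ E) (v : V) : cm ρ e (cm ρ e v) = 0 := by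
  have h := cm_mul ρ e e v
  rw [F.invol e he, cm_one, add_self_zero, zero_add] at h
  exact h.symm

theorem le_fix : commS ρ E W₀ ≤ fixS ρ E := by
  refine Submodule.span_le.mpr ?_
  rintro _ ⟨e, he, u, hu, rfl⟩
  exact F.cm_fix e he u hu

theorem le_top' : commS ρ E W₀ ≤ W₀ := F.le_fix.trans F.fix_le

theorem map_mem {e : G} (he : e ∈ E) {u : V} (hu : u ∈ W₀) : ρ e u ∈ W₀ := by
  rw [act_eq]; exact add_mem (F.cm_mem e he u) hu

/-- `[W₀,E]` is spanned by double commutators of any outside vector. -/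
theorem cm_double {w : V} (hw : w ∉ W₀) {f : G} (hf : f ∈ E) {u : V} (hu : u ∈ W₀) :
    ∃ e ∈ E, cm ρ f u = cm ρ f (cm ρ e w) := by
  obtain ⟨e, he, h⟩ := F.cover w hw u hu
  refine ⟨e, he, ?_⟩
  have h1 : cm ρ f (u + cm ρ e w) = 0 := (mem_fixS_iff ρ).mp h f hf
  rw [map_add] at h1
  have := congrArg (· + cm ρ f (cm ρ e w)) h1
  simpa [add_assoc, add_self_zero] using this

/-- The conjugate frame. -/
theorem conj (g : G) :
    Frame ρ (E.map (MulAut.conj g).toMonoidHom) (W₀.map (ρ g)) := by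
  have hE : ∀ e', e' ∈ E.map (MulAut.conj g).toMonoidHom ↔ ∃ e ∈ E, e' = g * e * g⁻¹ := fun e' =>
    ⟨fun ⟨e, he, h⟩ => ⟨e, he, h.symm⟩, fun ⟨e, he, h⟩ => ⟨e, he, h.symm⟩⟩
  have hW : ∀ v, v ∈ W₀.map (ρ g) ↔ ρ g⁻¹ v ∈ W₀ := fun v => by
    constructor
    · rintro ⟨u, hu, rfl⟩; rwa [act_inv]
    · exact fun h => ⟨_, h, act_inv' ρ g v⟩
  have hfix : ∀ v, v ∈ fixS ρ (E.map (MulAut.conj g).toMonoidHom) ↔ ρ g⁻¹ v ∈ fixS ρ E := by
    intro v
    simp only [mem_fixS_iff, hE]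
    constructor
    · intro h e he
      have h1 := h _ ⟨e, he, rfl⟩
      rw [← act_inv' ρ g v, cm_conj] at h1
      exact act_injective ρ g (h1.trans (map_zero _).symm)
    · rintro h _ ⟨e, he, rfl⟩
      rw [← act_inv' ρ g v, cm_conj, h e he, map_zero]
  have hcm : ∀ e ∈ E, ∀ v, cm ρ (g * e * g⁻¹) v = ρ g (cm ρ e (ρ g⁻¹ v)) := fun e _ v => by
    rw [← cm_conj, act_inv']
  have hY : ∀ y ∈ commS ρ E W₀, ρ g y ∈
      commS ρ (E.map (MulAut.conj g).toMonoidHom) (W₀.map (ρ g)) := by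
    intro y hy
    have : commS ρ E W₀ ≤
        (commS ρ (E.map (MulAut.conj g).toMonoidHom) (W₀.map (ρ g))).comap (ρ g) := by
      refine Submodule.span_le.mpr ?_
      rintro _ ⟨e, he, u, hu, rfl⟩
      rw [SetLike.mem_coe, Submodule.mem_comap]
      rw [← cm_conj]
      exact cm_mem_commS ρ ((hE _).mpr ⟨e, he, rfl⟩) ⟨u, hu, rfl⟩
    exact this hy
  refine ⟨?_, ?_, ?_, ?_, ?_, ?_, ?_, ?_⟩
  · intro e' he'
    obtain ⟨e, he, rfl⟩ := (hE e').mp he'
    rw [show g * e * g⁻¹ * (g * e * g⁻¹) = g * (e * e) * g⁻¹ by group, F.invol e he]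
    group
  · intro h
    refine F.top (eq_top_iff.mpr fun v _ => ?_)
    have h1 : ρ g v ∈ W₀.map (ρ g) := h ▸ Submodule.mem_top
    simpa [hW, act_inv] using h1
  · intro e' he' v
    obtain ⟨e, he, rfl⟩ := (hE e').mp he'
    rw [hcm e he]
    exact ⟨_, F.cm_mem e he _, rfl⟩
  · intro v hv
    exact (hW v).mpr (F.fix_le ((hfix v).mp hv))
  · intro e' he' u hu
    obtain ⟨e, he, rfl⟩ := (hE e').mp he'
    rw [hfix, hcm e he, act_inv]
    exact F.cm_fix e he _ ((hW u).mp hu)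
  · intro w hw u hu
    obtain ⟨e, he, h⟩ := F.cover _ (fun h => hw ((hW w).mpr h)) _ ((hW u).mp hu)
    refine ⟨_, (hE _).mpr ⟨e, he, rfl⟩, ?_⟩
    rw [hfix, hcm e he, map_add, act_inv]
    exact h
  · intro w hw e' he' v
    obtain ⟨e, he, rfl⟩ := (hE e').mp he'
    obtain ⟨f, hf, h⟩ := F.image _ (fun h => hw ((hW w).mpr h)) e he (ρ g⁻¹ v)
    refine ⟨_, (hE _).mpr ⟨f, hf, rfl⟩, ?_⟩
    rw [hcm e he, hcm f hf, ← map_add]
    exact hY _ h
  · intro h
    refine F.nontriv (eq_bot_iff.mpr fun y hy => ?_)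
    have h1 := hY y hy
    rw [h, Submodule.mem_bot] at h1
    exact (Submodule.mem_bot _).mpr (act_injective ρ g (h1.trans (map_zero _).symm))

theorem map_comm (g : G) {y : V} (hy : y ∈ commS ρ E W₀) :
    ρ g y ∈ commS ρ (E.map (MulAut.conj g).toMonoidHom) (W₀.map (ρ g)) := by
  have : commS ρ E W₀ ≤
      (commS ρ (E.map (MulAut.conj g).toMonoidHom) (W₀.map (ρ g))).comap (ρ g) := by
    refine Submodule.span_le.mpr ?_
    rintro _ ⟨e, he, u, hu, rfl⟩
    rw [SetLike.mem_coe, Submodule.mem_comap, ← cm_conj]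
    exact cm_mem_commS ρ (show g * e * g⁻¹ ∈ E.map (MulAut.conj g).toMonoidHom from ⟨e, he, rfl⟩) (Submodule.mem_map_of_mem hu)
  exact this hy

end Frame

/-- The contragredient action on functionals. -/
@[implicit_reducible]
def dualAction : MulAction G (Module.Dual (ZMod 2) V) where
  smul g n := n.comp (ρ g⁻¹)
  one_smul n := LinearMap.ext fun v => by
    show n (ρ 1⁻¹ v) = n v
    rw [inv_one, act_one]
  mul_smul g h n := LinearMap.ext fun v => by
    show n (ρ (g * h)⁻¹ v) = n (ρ h⁻¹ (ρ g⁻¹ v))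
    rw [mul_inv_rev, act_mul]

/-- The action on vectors. -/
@[implicit_reducible]
def vecAction : MulAction G V where
  smul g v := ρ g v
  one_smul v := act_one ρ v
  mul_smul g h v := act_mul ρ g h v

/-- Two frames whose double commutators are killed by functionals moved by the other group involve `S₃`. -/
theorem dual_triangle [Finite V] {E E' : Subgroup G} {W₀ W₁ : Submodule (ZMod 2) V}
    (F : Frame ρ E W₀) (F' : Frame ρ E' W₁) (m l : V →ₗ[ZMod 2] ZMod 2)
    (hm₁ : ∀ v ∈ W₁, m v = 0) (hmY : ∀ v ∈ commS ρ E W₀, m v = 0)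
    (hmE : ∃ e ∈ E, ∃ v, m (cm ρ e v) ≠ 0)
    (hl₀ : ∀ v ∈ W₀, l v = 0) (hlY : ∀ v ∈ commS ρ E' W₁, l v = 0)
    (hlE : ∃ e ∈ E', ∃ v, l (cm ρ e v) ≠ 0) :
    Cfsg.Involves (Equiv.Perm (Fin 3)) G := by
  -- every functional killing `W₀` is `m ∘ [·, e]`
  have key : ∀ {E E' : Subgroup G} {W₀ W₁ : Submodule (ZMod 2) V} (_ : Frame ρ E W₀)
      (m l : V →ₗ[ZMod 2] ZMod 2), (∀ v ∈ commS ρ E W₀, m v = 0) →
      (∃ e ∈ E, ∃ v, m (cm ρ e v) ≠ 0) → (∀ v ∈ W₀, l v = 0) →
      ∃ e ∈ E, ∀ v, m (cm ρ e v) = l v := by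
    intro E E' W₀ W₁ F m l hmY hmE hl₀
    let I : Submodule (ZMod 2) (Module.Dual (ZMod 2) V) :=
      { carrier := {n | ∃ e ∈ E, n = m.comp (cm ρ e)}
        zero_mem' := ⟨1, one_mem E, LinearMap.ext fun v => by simp [cm_one]⟩
        add_mem' := by
          rintro _ _ ⟨e, he, rfl⟩ ⟨f, hf, rfl⟩
          refine ⟨e * f, mul_mem he hf, LinearMap.ext fun v => ?_⟩
          simp only [LinearMap.add_apply, LinearMap.comp_apply, cm_mul, map_add]
          rw [hmY (cm ρ e (cm ρ f v)) (cm_mem_commS ρ he (F.cm_mem f hf v)), add_zero]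
        smul_mem' := by
          rintro r _ ⟨e, he, rfl⟩
          rcases (show r = 0 ∨ r = 1 by revert r; decide) with rfl | rfl
          · exact ⟨1, one_mem E, LinearMap.ext fun v => by simp [cm_one]⟩
          · exact ⟨e, he, one_smul _ _⟩ }
    have hco : I.dualCoannihilator ≤ W₀ := by
      intro v hv
      by_contra hvW
      rw [Submodule.mem_dualCoannihilator] at hv
      obtain ⟨e, he, v', hne⟩ := hmE
      obtain ⟨f, hf, h⟩ := F.image v hvW e he v'
      apply hne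
      have h1 := hmY _ h
      rw [map_add, show m (cm ρ f v) = 0 from hv _ ⟨f, hf, rfl⟩, add_zero] at h1
      exact h1
    have hl : l ∈ I := by
      rw [← Subspace.dualCoannihilator_dualAnnihilator_eq (W := I), Submodule.mem_dualAnnihilator]
      exact fun v hv => hl₀ v (hco hv)
    obtain ⟨e, he, h⟩ := hl
    exact ⟨e, he, fun v => (LinearMap.congr_fun h v).symm⟩
  obtain ⟨e, he, hme⟩ := key (E' := E') (W₁ := W₁) F m l hmY hmE hl₀
  obtain ⟨t, ht, hlt⟩ := key (E' := E) (W₁ := W₀) F' l m hlY hlE hm₁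
  letI := dualAction ρ
  have hsmul : ∀ (g : G) (n : Module.Dual (ZMod 2) V), g * g = 1 → ∀ v,
      (g • n : Module.Dual (ZMod 2) V) v = n (cm ρ g v) + n v := by
    intro g n hg v
    show n (ρ g⁻¹ v) = _
    rw [inv_eq_of_mul_eq_one_right hg, act_eq, map_add]
  have e2 := F.invol e he
  have t2 := F'.invol t ht
  have ea : e • m = m + l := LinearMap.ext fun v => by
    rw [hsmul e m e2, hme]; simp [add_comm]
  have ec : e • l = l := LinearMap.ext fun v => by
    rw [hsmul e l e2, hl₀ _ (F.cm_mem e he v), zero_add]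
  have ta : t • m = m := LinearMap.ext fun v => by
    rw [hsmul t m t2, hm₁ _ (F'.cm_mem t ht v), zero_add]
  have tc : t • l = m + l := LinearMap.ext fun v => by
    rw [hsmul t l t2, hlt]; simp
  have eb : e • (m + l) = m := by
    have := congrArg (e • ·) ea
    simp only [← mul_smul, e2, one_smul] at this
    exact this.symm
  have tb : t • (m + l) = l := by
    have := congrArg (t • ·) tc
    simp only [← mul_smul, t2, one_smul] at this
    exact this.symm
  have hm0 : m ≠ 0 := fun h => by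
    obtain ⟨e, _, v, hne⟩ := hmE; simp [h] at hne
  have hl0 : l ≠ 0 := fun h => by
    obtain ⟨e, _, v, hne⟩ := hlE; simp [h] at hne
  have hml : m ≠ l := fun h => by
    obtain ⟨f, hf, v, hne⟩ := hmE
    exact hne (h ▸ hl₀ _ (F.cm_mem f hf v))
  refine involves_three (a := m) (b := m + l) (c := l) ?_ ?_ hml ea eb ec ta tb tc
  · simpa using hl0
  · simpa using hm0

end CfsgLib.StellmacherW
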