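import Cfsg.Agent.Lib.StellmacherW.Sylow

/-!
A frame in a common Sylow two-subgroup gives a proper subspace invariant under every `S₃`-free
overgroup and containing the fixed points.
-/

set_option autoImplicit false
set_option linter.style.haveILetI false

namespace CfsgLib.StellmacherW

variable {G : Type*} [Group G] [Finite G] {V : Type*} [AddCommGroup V] [Module (ZMod 2) V]
  [Finite V] {ρ : Representation (ZMod 2) G V}

/-- The global step. -/
theorem exists_invariant {S : Subgroup G} {E : Subgroup G} {W₀ : Submodule (ZMod 2) V}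
    (F : Frame ρ E W₀) (hES : E ≤ S) (hS : IsPGroup 2 S) :
    ∃ U : Submodule (ZMod 2) V, U ≠ ⊤ ∧ fixS ρ S ≤ U ∧
      ∀ X : Subgroup G, S ≤ X → ¬ 2 ∣ S.relIndex X → ¬ Cfsg.Involves (Equiv.Perm (Fin 3)) X →
        ∀ x ∈ X, ∀ u ∈ U, ρ x u ∈ U := by
  set 𝒲 := {W : Submodule (ZMod 2) V | ∃ E' ≤ S, Frame ρ E' W} with h𝒲
  refine ⟨sInf 𝒲, ?_, ?_, ?_⟩
  · intro h
    exact F.top (top_le_iff.mp (h ▸ sInf_le ⟨E, hES, F⟩))
  · refine le_sInf ?_
    rintro W ⟨E', hE', F'⟩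
    exact fun v hv => F'.fix_le fun e he => hv e (hE' he)
  intro X hSX hodd hfree x hx u hu
  rw [Submodule.mem_sInf]
  rintro W ⟨E', hE', F'⟩
  haveI : Fact (Nat.Prime 2) := ⟨Nat.prime_two⟩
  let T : Sylow 2 X := (hS.comap_of_injective X.subtype X.subtype_injective).toSylow hodd
  have hEX : E'.map (MulAut.conj x⁻¹).toMonoidHom ≤ X := by
    rintro _ ⟨e, he, rfl⟩
    show x⁻¹ * e * x⁻¹⁻¹ ∈ X
    exact mul_mem (mul_mem (inv_mem hx) (hSX (hE' he))) (inv_mem (inv_mem hx))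
  have FX := (F'.conj x⁻¹).restrict hEX
  obtain ⟨g, hg, hgW⟩ := exists_frame_sylow hfree FX T
  have F'' := (F'.conj x⁻¹).conj (g : G)
  have hE'' : (E'.map (MulAut.conj x⁻¹).toMonoidHom).map (MulAut.conj (g : G)).toMonoidHom ≤ S := by
    rintro _ ⟨e, he, rfl⟩
    exact hg ⟨⟨e, hEX he⟩, he, rfl⟩
  have hgW' : (W.map (ρ x⁻¹)).map (ρ (g : G)) = W.map (ρ x⁻¹) := hgW
  obtain ⟨w, hw, hwu⟩ := hgW'.le (Submodule.mem_sInf.mp hu _ ⟨_, hE'', F''⟩)
  rw [← hwu, act_inv']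
  exact hw

end CfsgLib.StellmacherW
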