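import Cfsg.Agent.Lib.StellmacherW.Core

/-!
The swap theorem: in an `S₃`-free group, the conjugate of the group of a frame by an involution
centralises `V ⧸ W₀`.
-/

set_option autoImplicit false
set_option linter.style.haveILetI false

universe u v

namespace CfsgLib.StellmacherW

variable {G : Type*} [Group G] {V : Type*} [AddCommGroup V] [Module (ZMod 2) V]
  {ρ : Representation (ZMod 2) G V}

theorem Frame.restrict {E : Subgroup G} {W₀ : Submodule (ZMod 2) V} (F : Frame ρ E W₀)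
    {H : Subgroup G} (hEH : E ≤ H) :
    Frame (ρ.comp H.subtype : Representation (ZMod 2) H V) (E.subgroupOf H) W₀ := by
  have hfix : fixS (ρ.comp H.subtype : Representation (ZMod 2) H V) (E.subgroupOf H) = fixS ρ E := by
    ext v
    exact ⟨fun h e he => h ⟨e, hEH he⟩ he, fun h e he => h e.1 he⟩
  have hcm : ∀ (e : H) (v : V), cm (ρ.comp H.subtype : Representation (ZMod 2) H V) e v = cm ρ e v :=
    fun _ _ => rfl
  have hY : commS (ρ.comp H.subtype : Representation (ZMod 2) H V) (E.subgroupOf H) W₀ =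
      commS ρ E W₀ := by
    refine le_antisymm (Submodule.span_le.mpr ?_) (Submodule.span_le.mpr ?_)
    · rintro _ ⟨e, he, u, hu, rfl⟩
      exact cm_mem_commS ρ he hu
    · rintro _ ⟨e, he, u, hu, rfl⟩
      exact cm_mem_commS (ρ.comp H.subtype : Representation (ZMod 2) H V)
        (e := ⟨e, hEH he⟩) he hu
  refine ⟨fun e he => Subtype.ext (F.invol e he), F.top, fun e he v => F.cm_mem e he v,
    hfix ▸ F.fix_le, fun e he u hu => hfix ▸ F.cm_fix e he u hu, fun w hw u hu => ?_,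
    fun w hw e he v => ?_, hY ▸ F.nontriv⟩
  · obtain ⟨e, he, h⟩ := F.cover w hw u hu
    exact ⟨⟨e, hEH he⟩, he, hfix ▸ h⟩
  · obtain ⟨f, hf, h⟩ := F.image w hw e he v
    exact ⟨⟨f, hEH hf⟩, hf, hY ▸ h⟩

section Quotient

variable (ρ) {A B : Submodule (ZMod 2) V} (hA : ∀ g, ∀ v ∈ A, ρ g v ∈ A)
  (hB : ∀ g, ∀ v ∈ B, ρ g v ∈ B)

/-- The representation on `A ⧸ B`. -/
def sqRep : Representation (ZMod 2) G (A ⧸ B.comap A.subtype) where
  toFun g := Submodule.mapQ (B.comap A.subtype) (B.comap A.subtype) ((ρ g).restrict (hA g))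
    fun v hv => hB g v hv
  map_one' := by
    ext v
    simp only [LinearMap.coe_comp, Function.comp_apply, Submodule.mkQ_apply, Submodule.mapQ_apply,
      Module.End.one_apply]
    exact congrArg Submodule.Quotient.mk (Subtype.ext (act_one ρ v))
  map_mul' g h := by
    ext v
    simp only [LinearMap.coe_comp, Function.comp_apply, Submodule.mkQ_apply, Submodule.mapQ_apply,
      Module.End.mul_apply]
    exact congrArg Submodule.Quotient.mk (Subtype.ext (act_mul ρ g h v))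

theorem sqRep_mk (g : G) (v : A) :
    sqRep ρ hA hB g (Submodule.Quotient.mk v) = Submodule.Quotient.mk ⟨ρ g v, hA g v v.2⟩ := rfl

include hA in
theorem cm_mem_sub (g : G) {v : V} (hv : v ∈ A) : cm ρ g v ∈ A := by
  rw [cm_apply]; exact add_mem (hA g v hv) hv

theorem cm_sqRep (g : G) (v : A) :
    cm (sqRep ρ hA hB) g (Submodule.Quotient.mk v) =
      Submodule.Quotient.mk ⟨cm ρ g v, cm_mem_sub ρ hA g v.2⟩ := rfl

variable {ρ}

theorem Frame.commS_le {E : Subgroup G} {W₀ : Submodule (ZMod 2) V} (F : Frame ρ E W₀)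
    (hA : ∀ g, ∀ v ∈ A, ρ g v ∈ A) (hA0 : ¬ A ≤ W₀) : commS ρ E W₀ ≤ A := by
  obtain ⟨w, hwA, hw⟩ := SetLike.not_le_iff_exists.mp hA0
  refine Submodule.span_le.mpr ?_
  rintro _ ⟨e, he, u, hu, rfl⟩
  obtain ⟨f, hf, h⟩ := F.cm_double hw he hu
  rw [SetLike.mem_coe, h]
  exact cm_mem_sub ρ hA e (cm_mem_sub ρ hA f hwA)

theorem mem_imageSub {W₀ : Submodule (ZMod 2) V} (hB0 : B ≤ W₀) (v : A) :
    (Submodule.Quotient.mk v : A ⧸ B.comap A.subtype) ∈
      (W₀.comap A.subtype).map (B.comap A.subtype).mkQ ↔ (v : V) ∈ W₀ := by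
  constructor
  · rintro ⟨u, hu, h⟩
    have h1 : u - v ∈ B.comap A.subtype := (Submodule.Quotient.eq _).mp h
    have h2 := sub_mem hu (Submodule.comap_mono hB0 h1)
    rwa [sub_sub_cancel] at h2
  · exact fun h => ⟨v, h, rfl⟩

theorem Frame.quotient {E : Subgroup G} {W₀ : Submodule (ZMod 2) V} (F : Frame ρ E W₀)
    (hA : ∀ g, ∀ v ∈ A, ρ g v ∈ A) (hB : ∀ g, ∀ v ∈ B, ρ g v ∈ B) (hB0 : B ≤ W₀)
    (hA0 : ¬ A ≤ W₀) (hY : ¬ commS ρ E W₀ ≤ B) :
    Frame (sqRep ρ hA hB) E ((W₀.comap A.subtype).map (B.comap A.subtype).mkQ) := by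
  have hYA := F.commS_le hA hA0
  have hYA' : ∀ y ∈ commS ρ E W₀, ∀ hy : y ∈ A, (Submodule.Quotient.mk ⟨y, hy⟩ : A ⧸ B.comap A.subtype) ∈
      commS (sqRep ρ hA hB) E ((W₀.comap A.subtype).map (B.comap A.subtype).mkQ) := by
    intro y hy
    induction hy using Submodule.span_induction with
    | mem y hy =>
      intro hyA
      obtain ⟨e, he, u, hu, rfl⟩ := hy
      obtain ⟨w, hwA, hw⟩ := SetLike.not_le_iff_exists.mp hA0
      obtain ⟨f, hf, h⟩ := F.cm_double hw he hu
      simp only [h]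
      rw [← cm_sqRep ρ hA hB e ⟨cm ρ f w, cm_mem_sub ρ hA f hwA⟩]
      exact cm_mem_commS _ he ((mem_imageSub hB0 _).mpr (F.cm_mem f hf w))
    | zero => intro _; exact zero_mem _
    | add a b ha hb iha ihb =>
      intro hab
      exact add_mem (iha (hYA ha)) (ihb (hYA hb))
    | smul r a ha iha =>
      intro hra
      exact Submodule.smul_mem _ r (iha (hYA ha))
  have hcases : ∀ q : A ⧸ B.comap A.subtype, ∃ v : A, Submodule.Quotient.mk v = q :=
    Submodule.Quotient.mk_surjective _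
  refine ⟨F.invol, ?_, ?_, ?_, ?_, ?_, ?_, ?_⟩
  · intro h
    exact hA0 fun v hv => (mem_imageSub hB0 ⟨v, hv⟩).mp (h ▸ Submodule.mem_top)
  · intro e he q
    obtain ⟨v, rfl⟩ := hcases q
    rw [cm_sqRep, mem_imageSub hB0]
    exact F.cm_mem e he v
  · intro q hq
    obtain ⟨v, rfl⟩ := hcases q
    rw [mem_imageSub hB0]
    by_contra hv
    refine hY (Submodule.span_le.mpr ?_)
    rintro _ ⟨e, he, u, hu, rfl⟩
    obtain ⟨f, hf, h⟩ := F.cm_double hv he hu
    rw [SetLike.mem_coe, h]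
    have h1 := (mem_fixS_iff _).mp hq f hf
    rw [cm_sqRep, Submodule.Quotient.mk_eq_zero] at h1
    exact cm_mem_sub ρ hB e (show cm ρ f v ∈ B from h1)
  · intro e he q hq
    obtain ⟨v, rfl⟩ := hcases q
    rw [cm_sqRep, mem_fixS_iff]
    intro f hf
    rw [cm_sqRep, Submodule.Quotient.mk_eq_zero]
    show cm ρ f (cm ρ e v) ∈ B
    rw [(mem_fixS_iff ρ).mp (F.cm_fix e he v ((mem_imageSub hB0 v).mp hq)) f hf]
    exact zero_mem _
  · intro q hq u hu
    obtain ⟨w, rfl⟩ := hcases q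
    obtain ⟨v, rfl⟩ := hcases u
    obtain ⟨e, he, h⟩ := F.cover w (fun h => hq ((mem_imageSub hB0 w).mpr h)) v
      ((mem_imageSub hB0 v).mp hu)
    refine ⟨e, he, (mem_fixS_iff _).mpr fun f hf => ?_⟩
    rw [cm_sqRep, ← Submodule.Quotient.mk_add, cm_sqRep, Submodule.Quotient.mk_eq_zero]
    show cm ρ f ((v : V) + cm ρ e w) ∈ B
    rw [(mem_fixS_iff ρ).mp h f hf]
    exact zero_mem _
  · intro q hq e he u
    obtain ⟨w, rfl⟩ := hcases q
    obtain ⟨v, rfl⟩ := hcases u
    obtain ⟨f, hf, h⟩ := F.image w (fun h => hq ((mem_imageSub hB0 w).mpr h)) e he v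
    refine ⟨f, hf, ?_⟩
    rw [cm_sqRep, cm_sqRep, ← Submodule.Quotient.mk_add]
    exact hYA' _ h _
  · intro h
    refine hY fun y hy => ?_
    have h1 := hYA' y hy (hYA hy)
    rw [h, Submodule.mem_bot, Submodule.Quotient.mk_eq_zero] at h1
    exact h1

end Quotient

/-- The swap theorem, by induction on the order of the group. -/
theorem swap_aux : ∀ (n : ℕ) (G : Type u) [Group G] [Finite G] (V : Type v) [AddCommGroup V]
    [Module (ZMod 2) V] [Finite V] (ρ : Representation (ZMod 2) G V), Nat.card G ≤ n →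
    ¬ Cfsg.Involves (Equiv.Perm (Fin 3)) G → ∀ (E : Subgroup G) (W₀ : Submodule (ZMod 2) V),
    Frame ρ E W₀ → ∀ x : G, x * x = 1 → ∀ e ∈ E, ∀ v, cm ρ (x * e * x⁻¹) v ∈ W₀ := by
  intro n
  induction n using Nat.strong_induction_on with
  | _ n ih =>
  intro G _ _ V _ _ _ ρ hn hfree E W₀ F x hx
  classical
  have IH : ∀ (V' : Type v) [AddCommGroup V'] [Module (ZMod 2) V'] [Finite V']
      (σ : Representation (ZMod 2) G V') (E' : Subgroup G) (W' : Submodule (ZMod 2) V'),
      Frame σ E' W' → ∀ f : G, f * f = 1 → E' ⊔ Subgroup.zpowers f ≠ ⊤ →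
      ∀ e ∈ E', ∀ v, cm σ (f * e * f⁻¹) v ∈ W' := by
    intro V' _ _ _ σ E' W' F' f hf hne e he v
    set H := E' ⊔ Subgroup.zpowers f
    have hlt : Nat.card H < n := lt_of_lt_of_le (lt_of_le_of_ne (Subgroup.card_le_card_group _)
      fun h => hne (Subgroup.eq_top_of_card_eq _ h)) hn
    exact ih _ hlt H V' (σ.comp H.subtype) le_rfl
      (fun h => hfree (CfsgLib.Offender.involves_of_injective H.subtype H.subtype_injective h))
      (E'.subgroupOf H) W' (F'.restrict le_sup_left)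
      ⟨f, le_sup_right (a := E') (Subgroup.mem_zpowers f)⟩ (Subtype.ext hf)
      ⟨e, le_sup_left (b := Subgroup.zpowers f) he⟩ he v
  by_cases htop : E ⊔ Subgroup.zpowers x = ⊤
  swap
  · exact IH V ρ E W₀ F x hx htop
  intro e0 he0 v0
  by_contra hbad
  have F' := F.conj x
  have hxi : x⁻¹ = x := inv_eq_of_mul_eq_one_right hx
  have xx : ∀ v, ρ x (ρ x v) = v := fun v => by rw [← act_mul, hx, act_one]
  have cx : ∀ e v, cm ρ (x * e * x⁻¹) (ρ x v) = ρ x (cm ρ e v) := fun e v => cm_conj ρ x e v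
  by_cases hY : commS ρ E W₀ ≤ W₀.map (ρ x)
  · -- dual argument
    obtain ⟨l, hl⟩ : ∃ l : V →ₗ[ZMod 2] ZMod 2,
        (∀ v ∈ W₀, l v = 0) ∧ l (cm ρ (x * e0 * x⁻¹) v0) ≠ 0 := by
      obtain ⟨l, hl, hl'⟩ := Submodule.exists_dual_map_eq_bot_of_notMem hbad inferInstance
      refine ⟨l, fun v hv => ?_, hl⟩
      have := Submodule.mem_map_of_mem (f := l) hv
      rwa [hl', Submodule.mem_bot] at this
    have hlY : ∀ v ∈ commS ρ (E.map (MulAut.conj x).toMonoidHom) (W₀.map (ρ x)), l v = 0 := by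
      have : commS ρ (E.map (MulAut.conj x).toMonoidHom) (W₀.map (ρ x)) ≤ LinearMap.ker l := by
        refine Submodule.span_le.mpr ?_
        rintro _ ⟨_, ⟨e, he, rfl⟩, _, ⟨u, hu, rfl⟩, rfl⟩
        obtain ⟨y, hy, hyu⟩ := hY (cm_mem_commS ρ he hu)
        show l (cm ρ (x * e * x⁻¹) (ρ x u)) = 0
        rw [cx, ← hyu, xx]
        exact hl.1 y hy
      exact fun v hv => this hv
    refine hfree (dual_triangle ρ F F' (l.comp (ρ x)) l ?_ ?_ ?_ hl.1 hlY
      ⟨_, ⟨e0, he0, rfl⟩, v0, hl.2⟩)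
    · rintro _ ⟨u, hu, rfl⟩
      rw [LinearMap.comp_apply, xx]
      exact hl.1 u hu
    · intro v hv
      exact hlY _ (F.map_comm x hv)
    · exact ⟨e0, he0, ρ x v0, by rw [LinearMap.comp_apply, ← cx, xx]; exact hl.2⟩
  -- the largest invariant subspace in `W₀`
  let Inv : Submodule (ZMod 2) V → Prop := fun S => ∀ g, ∀ v ∈ S, ρ g v ∈ S
  have hinv : ∀ {V' : Type v} [AddCommGroup V'] [Module (ZMod 2) V']
      (σ : Representation (ZMod 2) G V') (S : Submodule (ZMod 2) V'),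
      (∀ e ∈ E, ∀ v ∈ S, σ e v ∈ S) → (∀ v ∈ S, σ x v ∈ S) → ∀ g, ∀ v ∈ S, σ g v ∈ S := by
    intro V' _ _ σ S hE hx' g
    have hg : g ∈ E ⊔ Subgroup.zpowers x := htop ▸ Subgroup.mem_top g
    rw [Subgroup.sup_eq_closure] at hg
    induction hg using Subgroup.closure_induction'' with
    | mem y hy =>
      rcases hy with hy | hy
      · exact hE y hy
      · obtain ⟨k, rfl⟩ := hy
        rcases Int.even_or_odd k with ⟨m, rfl⟩ | ⟨m, rfl⟩
        · intro v hv
          show σ (x ^ (m + m)) v ∈ S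
          rw [← two_mul, zpow_mul, zpow_two, hx, one_zpow, act_one]
          exact hv
        · intro v hv
          show σ (x ^ (2 * m + 1)) v ∈ S
          rw [zpow_add, zpow_mul, zpow_two, hx, one_zpow, one_mul, zpow_one]
          exact hx' v hv
    | inv_mem y hy =>
      rcases hy with hy | hy
      · exact hE _ (inv_mem hy)
      · obtain ⟨k, rfl⟩ := hy
        rcases Int.even_or_odd k with ⟨m, rfl⟩ | ⟨m, rfl⟩
        · intro v hv
          show σ (x ^ (m + m))⁻¹ v ∈ S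
          rw [← two_mul, zpow_mul, zpow_two, hx, one_zpow, inv_one, act_one]
          exact hv
        · intro v hv
          show σ (x ^ (2 * m + 1))⁻¹ v ∈ S
          rw [zpow_add, zpow_mul, zpow_two, hx, one_zpow, one_mul, zpow_one, hxi]
          exact hx' v hv
    | one => intro v hv; rw [act_one]; exact hv
    | mul a b _ _ ha hb => intro v hv; rw [act_mul]; exact ha _ (hb v hv)
  let B : Submodule (ZMod 2) V :=
    { carrier := {v | ∀ g, ρ g v ∈ W₀}
      add_mem' := fun ha hb g => by rw [map_add]; exact add_mem (ha g) (hb g)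
      zero_mem' := fun g => by rw [map_zero]; exact zero_mem _
      smul_mem' := fun r v hv g => by rw [map_smul]; exact Submodule.smul_mem _ r (hv g) }
  have hB0 : B ≤ W₀ := fun v hv => by simpa [act_one] using hv 1
  have hB : Inv B := fun g v hv h => by rw [← act_mul]; exact hv (h * g)
  have hBmax : ∀ S, Inv S → S ≤ W₀ → S ≤ B := fun S hS h0 v hv g => h0 (hS g v hv)
  obtain ⟨A, -, hAmin⟩ := Finite.exists_le_minimal
    (p := fun A : Submodule (ZMod 2) V => Inv A ∧ B ≤ A ∧ ¬ A ≤ W₀) (a := ⊤)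
    ⟨fun _ _ _ => Submodule.mem_top, le_top, fun h => F.top (eq_top_iff.mpr h)⟩
  obtain ⟨hA, hBA, hA0⟩ := hAmin.prop
  have hYA : commS ρ E W₀ ≤ A := F.commS_le hA hA0
  have hYB : ¬ commS ρ E W₀ ≤ B := fun h => hY fun y hy =>
    ⟨ρ x y, h hy x, xx y⟩
  have Fq := F.quotient hA hB hB0 hA0 hYB
  haveI : Finite (A ⧸ B.comap A.subtype) := Quotient.finite _
  refine core_false hfree Fq hx (fun S hSE hSx => ?_) (fun h => hY fun y hy => ?_)
    (fun E' W' F'' f hf hne => IH _ _ E' W' F'' f hf hne)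
  · have hS := hinv _ S hSE hSx
    set T := (S.comap (B.comap A.subtype).mkQ).map A.subtype with hT
    have hTinv : Inv T := by
      rintro g _ ⟨v, hv, rfl⟩
      exact ⟨⟨ρ g v, hA g v v.2⟩, hS g _ hv, rfl⟩
    have hBT : B ≤ T := fun b hb => ⟨⟨b, hBA hb⟩, by
      show Submodule.Quotient.mk _ ∈ S
      rw [(Submodule.Quotient.mk_eq_zero _).mpr (show (⟨b, hBA hb⟩ : A) ∈ B.comap A.subtype from hb)]
      exact zero_mem _, rfl⟩
    by_cases hT0 : T ≤ W₀
    · left
      refine eq_bot_iff.mpr fun q hq => ?_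
      obtain ⟨v, rfl⟩ := Submodule.Quotient.mk_surjective _ q
      exact (Submodule.mem_bot _).mpr ((Submodule.Quotient.mk_eq_zero _).mpr
        (hBmax T hTinv hT0 ⟨v, hq, rfl⟩))
    · right
      have hTA : A ≤ T := hAmin.2 ⟨hTinv, hBT, hT0⟩ (Submodule.map_subtype_le A _)
      refine eq_top_iff.mpr fun q _ => ?_
      obtain ⟨v, rfl⟩ := Submodule.Quotient.mk_surjective _ q
      obtain ⟨u, hu, huv⟩ := hTA v.2
      rwa [show v = u from Subtype.ext huv.symm]
  · have h1 : (Submodule.Quotient.mk ⟨y, hYA hy⟩ : A ⧸ B.comap A.subtype) ∈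
        commS (sqRep ρ hA hB) E ((W₀.comap A.subtype).map (B.comap A.subtype).mkQ) := by
      clear * - F hA hB hB0 hA0 hy hYA
      induction hy using Submodule.span_induction with
      | mem y hy =>
        obtain ⟨e, he, u, hu, rfl⟩ := hy
        obtain ⟨w, hwA, hw⟩ := SetLike.not_le_iff_exists.mp hA0
        obtain ⟨f, hf, h⟩ := F.cm_double hw he hu
        simp only [h]
        rw [← cm_sqRep ρ hA hB e ⟨cm ρ f w, cm_mem_sub ρ hA f hwA⟩]
        exact cm_mem_commS _ he ((mem_imageSub hB0 _).mpr (F.cm_mem f hf w))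
      | zero => exact zero_mem _
      | add a b ha hb iha ihb => exact add_mem (iha) (ihb)
      | smul r a ha iha => exact Submodule.smul_mem _ r iha
    obtain ⟨q, hq, hqy⟩ := h h1
    obtain ⟨v, rfl⟩ := Submodule.Quotient.mk_surjective _ q
    rw [sqRep_mk, Submodule.Quotient.eq] at hqy
    have h2 : ρ x v - y ∈ B := hqy
    refine ⟨v + ρ x (ρ x v - y), add_mem ((mem_imageSub hB0 v).mp hq) ?_, ?_⟩
    · exact neg_mem_iff.mp (neg_mem (h2 x))
    · rw [map_add, xx]
      rw [show ρ x (v : V) + (ρ x v - y) = y + (ρ x v - y) + (ρ x v - y) by abel, add_assoc,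
        add_self_zero, add_zero]

/-- The swap theorem. -/
theorem swap {G : Type u} [Group G] [Finite G] {V : Type v} [AddCommGroup V] [Module (ZMod 2) V]
    [Finite V] {ρ : Representation (ZMod 2) G V} (hfree : ¬ Cfsg.Involves (Equiv.Perm (Fin 3)) G)
    {E : Subgroup G} {W₀ : Submodule (ZMod 2) V} (F : Frame ρ E W₀) {x : G} (hx : x * x = 1) :
    ∀ e ∈ E, ∀ v, cm ρ (x * e * x⁻¹) v ∈ W₀ :=
  swap_aux (Nat.card G) G V ρ le_rfl hfree E W₀ F x hx

end CfsgLib.StellmacherW
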