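import Cfsg.Agent.Lib.StellmacherW.Swap
import Cfsg.Agent.Lib.Subnormal.GenZipper
import Cfsg.Agent.Lib.Fitting.Basic

/-!
A group generated by the conjugates of the group of a frame is a two-group or centralises `V ⧸ W₀`;
consequently every Sylow two-subgroup contains a frame with the same subspace.
-/

set_option autoImplicit false
set_option linter.style.haveILetI false

universe u v

namespace CfsgLib.StellmacherW

/-- The kernel of the action on `V ⧸ W₀`. -/
def centQuot {G : Type u} [Group G] {V : Type v} [AddCommGroup V] [Module (ZMod 2) V]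
    (ρ : Representation (ZMod 2) G V) (W₀ : Submodule (ZMod 2) V) : Subgroup G where
  carrier := {g | ∀ v, cm ρ g v ∈ W₀}
  one_mem' v := by rw [cm_one]; exact zero_mem _
  mul_mem' := fun {a b} ha hb v => by
    rw [cm_mul]; exact add_mem (add_mem (ha v) (hb v)) (ha _)
  inv_mem' := fun {a} ha v => by
    have h := ha (ρ a⁻¹ v)
    rwa [cm_apply, act_inv', add_comm, ← cm_apply] at h

theorem mem_centQuot {G : Type u} [Group G] {V : Type v} [AddCommGroup V] [Module (ZMod 2) V]
    {ρ : Representation (ZMod 2) G V} {W₀ : Submodule (ZMod 2) V} {g : G} :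
    g ∈ centQuot ρ W₀ ↔ ∀ v, cm ρ g v ∈ W₀ := Iff.rfl

theorem map_act_eq {G : Type u} [Group G] {V : Type v} [AddCommGroup V] [Module (ZMod 2) V]
    {ρ : Representation (ZMod 2) G V} {W₀ : Submodule (ZMod 2) V} {g : G}
    (hg : g ∈ centQuot ρ W₀) : W₀.map (ρ g) = W₀ := by
  refine le_antisymm ?_ fun v hv => ⟨ρ g⁻¹ v, ?_, act_inv' ρ g v⟩
  · rintro _ ⟨u, hu, rfl⟩
    rw [act_eq]
    exact add_mem (mem_centQuot.mp hg u) hu
  · rw [SetLike.mem_coe, act_eq]
    exact add_mem (mem_centQuot.mp (inv_mem hg) v) hv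

open CfsgLib.GenZipper in
theorem closure_cases_aux : ∀ (n : ℕ) (G : Type u) [Group G] [Finite G] (V : Type v)
    [AddCommGroup V] [Module (ZMod 2) V] [Finite V] (ρ : Representation (ZMod 2) G V),
    Nat.card G ≤ n → ¬ Cfsg.Involves (Equiv.Perm (Fin 3)) G →
    ∀ (E : Subgroup G) (W₀ : Submodule (ZMod 2) V), Frame ρ E W₀ →
    Subgroup.normalClosure (E : Set G) = ⊤ → IsPGroup 2 G ∨ centQuot ρ W₀ = ⊤ := by
  intro n
  induction n using Nat.strong_induction_on with
  | _ n ih =>
  intro G _ _ V _ _ _ ρ hn hfree E W₀ F hE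
  classical
  by_cases hEtop : E = ⊤
  · left
    exact fun g => ⟨1, by rw [pow_one, pow_two]; exact F.invol g (hEtop ▸ Subgroup.mem_top g)⟩
  have hEC : E ≤ centQuot ρ W₀ := fun e he => mem_centQuot.mpr (F.cm_mem e he)
  set S := {H : Subgroup G | E ≤ H ∧ H ≠ ⊤ ∧ Cls E H}
  have hS : sSup S ≤ centQuot ρ W₀ := by
    refine sSup_le ?_
    rintro H ⟨hEH, hne, -, hcls⟩
    have hlt : Nat.card H < n := lt_of_lt_of_le (lt_of_le_of_ne (Subgroup.card_le_card_group _)
      fun h => hne (Subgroup.eq_top_of_card_eq _ h)) hn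
    rcases ih _ hlt H V (ρ.comp H.subtype) le_rfl
      (fun h => hfree (CfsgLib.Offender.involves_of_injective H.subtype H.subtype_injective h))
      (E.subgroupOf H) W₀ (F.restrict hEH) hcls with hp | hc
    · -- a two-group generated by conjugates of `E`
      have hEH' : E.subgroupOf H = ⊤ := by
        by_contra hne'
        obtain ⟨M, hM, hEM⟩ := (eq_top_or_exists_le_coatom (E.subgroupOf H)).resolve_left hne'
        haveI : Fact (Nat.Prime 2) := ⟨Nat.prime_two⟩
        haveI := hp.isNilpotent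
        haveI : M.Normal := Subgroup.NormalizerCondition.normal_of_coatom M normalizerCondition_of_isNilpotent hM
        exact hM.1 (top_le_iff.mp (hcls ▸ Subgroup.normalClosure_le_normal hEM))
      exact fun h hh => hEC (Subgroup.subgroupOf_eq_top.mp hEH' hh)
    · exact fun h hh => mem_centQuot.mpr fun v =>
        mem_centQuot.mp (hc.ge (Subgroup.mem_top (⟨h, hh⟩ : H))) v
  by_cases hY : sSup S = ⊤
  · exact Or.inr (top_le_iff.mp (hY ▸ hS))
  by_cases hC : centQuot ρ W₀ = ⊤
  · exact Or.inr hC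
  exfalso
  obtain ⟨M, ⟨hM, hEM⟩, huniq⟩ := GenZipper.main E hE hEtop hY
  have hCM : centQuot ρ W₀ ≤ M := by
    obtain ⟨M', hM', hle⟩ := (eq_top_or_exists_le_coatom (centQuot ρ W₀)).resolve_left hC
    rw [← huniq M' ⟨hM', hEC.trans hle⟩]
    exact hle
  have hnn : ¬ M.Normal := fun hn' => hM.1 (top_le_iff.mp (hE ▸ Subgroup.normalClosure_le_normal hEM))
  have hself : Subgroup.normalizer (M : Set G) = M := by
    by_contra hne
    exact hnn (Subgroup.normalizer_eq_top_iff.mp
      (hM.2 _ (lt_of_le_of_ne Subgroup.le_normalizer (Ne.symm hne))))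
  have hinvol : ∀ t : G, t * t = 1 → t ∈ M := by
    intro t ht
    have hti : t⁻¹ = t := inv_eq_of_mul_eq_one_right ht
    have h1 : cj t E ≤ M := by
      rintro _ ⟨e, he, rfl⟩
      exact hCM (mem_centQuot.mpr (swap hfree F ht e he))
    have h2 : E ≤ cj t M := by
      have h := cj_mono t⁻¹ h1
      rw [cj_inv_cj] at h
      rwa [hti] at h
    have h3 : cj t M = M := huniq _ ⟨cj_isCoatom t hM, h2⟩
    rw [← hself, Subgroup.mem_normalizer_iff]
    intro m
    constructor
    · exact fun hm => h3 ▸ mem_cj hm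
    · intro hm
      have h := h3.ge hm
      obtain ⟨u, hu, huv⟩ := h
      have huv' : t * u * t⁻¹ = t * m * t⁻¹ := huv
      rwa [← mul_left_cancel (mul_right_cancel huv')]
  have hle : Subgroup.normalClosure (E : Set G) ≤ M := by
    refine (Subgroup.closure_le _).mpr ?_
    intro g hg
    obtain ⟨e, he, hc⟩ := Group.mem_conjugatesOfSet_iff.mp hg
    obtain ⟨c, hc⟩ := isConj_iff.mp hc
    refine hinvol g ?_
    rw [← hc, show c * e * c⁻¹ * (c * e * c⁻¹) = c * (e * e) * c⁻¹ by group, F.invol e he]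
    group
  exact hM.1 (top_le_iff.mp (hE ▸ hle))

variable {G : Type u} [Group G] [Finite G]

theorem not_two_dvd_relIndex {M : Subgroup G} (hM : M.IsSubnormal) (S : Sylow 2 G) :
    ¬ 2 ∣ (S : Subgroup G).relIndex M := by
  haveI : Fact (Nat.Prime 2) := ⟨Nat.prime_two⟩
  induction hM with
  | top => rw [Subgroup.relIndex_top_right]; exact S.not_dvd_index
  | step M K hle _ hn ih =>
    intro hd
    apply ih
    rw [← Subgroup.relIndex_subgroupOf hle] at hd
    haveI := hn
    exact hd.trans (Fitting.relIndex_dvd_index_of_normal_right _ _)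

/-- Every Sylow two-subgroup contains the group of a frame with the same subspace. -/
theorem exists_frame_sylow {V : Type v} [AddCommGroup V] [Module (ZMod 2) V] [Finite V]
    {ρ : Representation (ZMod 2) G V} (hfree : ¬ Cfsg.Involves (Equiv.Perm (Fin 3)) G)
    {E : Subgroup G} {W₀ : Submodule (ZMod 2) V} (F : Frame ρ E W₀) (T : Sylow 2 G) :
    ∃ g : G, E.map (MulAut.conj g).toMonoidHom ≤ T ∧ W₀.map (ρ g) = W₀ := by
  haveI : Fact (Nat.Prime 2) := ⟨Nat.prime_two⟩
  obtain ⟨L, hEL, hL, hcls⟩ := GenZipper.exists_sn_cls (le_top : E ≤ (⊤ : Subgroup G))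
  have hLsn : L.IsSubnormal := by
    have h := hL.2.comap (Subgroup.topEquiv (G := G)).symm.toMonoidHom
    rwa [show (L.subgroupOf ⊤).comap (Subgroup.topEquiv (G := G)).symm.toMonoidHom = L from
      Subgroup.ext fun x => Iff.rfl] at h
  let TL := (T.2.comap_of_injective L.subtype L.subtype_injective).toSylow
    (not_two_dvd_relIndex hLsn T)
  rcases closure_cases_aux (Nat.card L) L V (ρ.comp L.subtype) le_rfl
    (fun h => hfree (CfsgLib.Offender.involves_of_injective L.subtype L.subtype_injective h))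
    (E.subgroupOf L) W₀ (F.restrict hEL) hcls.2 with hp | hc
  · refine ⟨1, ?_, by rw [map_one]; exact Submodule.map_id _⟩
    have htop : (TL : Subgroup L) = ⊤ :=
      (TL.3 (hp.to_subgroup ⊤) le_top).symm
    rintro _ ⟨e, he, rfl⟩
    have h1 : (⟨e, hEL he⟩ : L) ∈ (TL : Subgroup L) := htop ▸ Subgroup.mem_top _
    simpa using (show e ∈ (T : Subgroup G) from h1)
  · have hp : IsPGroup 2 (E.subgroupOf L) := fun e => ⟨1, by
      rw [pow_one, pow_two]
      exact Subtype.ext (Subtype.ext (F.invol _ e.2))⟩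
    obtain ⟨P, hP⟩ := hp.exists_le_sylow
    obtain ⟨g, hg⟩ := MulAction.exists_smul_eq L P TL
    refine ⟨g, ?_, map_act_eq (mem_centQuot.mpr fun v =>
      mem_centQuot.mp (hc.ge (Subgroup.mem_top g)) v)⟩
    rintro _ ⟨e, he, rfl⟩
    have h1 : g * ⟨e, hEL he⟩ * g⁻¹ ∈ (TL : Subgroup L) := by
      rw [← hg]
      exact ⟨⟨e, hEL he⟩, hP he, rfl⟩
    exact h1

end CfsgLib.StellmacherW
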